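import Cfsg.Agent.Lib.LocalEven.JComplement.Operators
import Cfsg.Agent.Lib.PStab.MaxAdm

/-!
The replacement count: an abelian subgroup of largest order cannot act as in `Setup`.
-/

set_option autoImplicit false

open scoped commutatorElement Pointwise

namespace CfsgLib.LocalEven.JComplement.Setup

variable {G : Type*} [Group G] [Finite G] {p : ℕ} [hp : Fact p.Prime] (P : Setup p G)

theorem δ_nilpotent : P.δ ^ p ^ P.k = 0 := by
  rw [δ, sub_pow_char_pow_of_commute (p := p) _ (Commute.one_right (P.ρ P.aL)), one_pow, ← map_pow,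
    P.ρ_aL_pow, sub_self]

/-- A stable subgroup containing a vector with nonzero `j`-th image has at least `p ^ (j+1)`
elements. -/
theorem le_card_stable : ∀ (j : ℕ) (I : AddSubgroup P.W), (∀ y ∈ I, P.δ y ∈ I) →
    ∀ v ∈ I, (P.δ ^ j) v ≠ 0 → p ^ (j + 1) ≤ Nat.card I := by
  have hWp : IsPGroup p (Multiplicative P.W) := fun w =>
    ⟨1, by rw [pow_one]; exact Multiplicative.toAdd.injective (P.smul_p w.toAdd)⟩
  have hcard : ∀ I : AddSubgroup P.W, I ≠ ⊥ → p ≤ Nat.card I := by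
    intro I hI
    obtain ⟨e, he⟩ := IsPGroup.iff_card.1 (hWp.to_subgroup I.toSubgroup)
    change Nat.card I = p ^ e at he
    rcases e.eq_zero_or_pos with rfl | he0
    · exact absurd (AddSubgroup.eq_bot_of_card_eq I (by rw [he, pow_zero])) hI
    · rw [he]; exact Nat.le_self_pow he0.ne' p
  intro j
  induction j with
  | zero =>
    intro I _ v hv hv0
    rw [zero_add, pow_one]
    refine hcard I fun h => hv0 ?_
    rw [h, AddSubgroup.mem_bot] at hv
    rw [hv, map_zero]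
  | succ j ih =>
    intro I hI v hv hv0
    set f : I →+ P.W := (P.δ : P.W →+ P.W).comp I.subtype with hf
    have h1 : p ^ (j + 1) ≤ Nat.card f.range := by
      refine ih f.range ?_ (P.δ v) ⟨⟨v, hv⟩, rfl⟩ ?_
      · rintro _ ⟨y, rfl⟩
        exact ⟨⟨P.δ y, hI y y.2⟩, rfl⟩
      · rwa [pow_succ, P.end_mul_apply] at hv0
    have h2 : p ≤ Nat.card f.ker := by
      -- the last nonzero image of `v`
      obtain ⟨m, hm, hm1⟩ : ∃ m, (P.δ ^ m) v ≠ 0 ∧ (P.δ ^ (m + 1)) v = 0 := by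
        by_contra hall
        push Not at hall
        have h0 : ∀ m, (P.δ ^ m) v ≠ 0 := by
          intro m
          induction m with
          | zero => intro h; exact hv0 (by rw [show v = 0 from h, map_zero])
          | succ m ihm => exact hall m ihm
        exact h0 (p ^ P.k) (by rw [P.δ_nilpotent]; rfl)
      have hmI : ∀ m, (P.δ ^ m) v ∈ I := by
        intro m
        induction m with
        | zero => exact hv
        | succ m ihm => rw [pow_succ', P.end_mul_apply]; exact hI _ ihm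
      rw [← AddSubgroup.card_map_of_injective (f := I.subtype) Subtype.val_injective (K := f.ker)]
      refine hcard _ fun h => hm ?_
      rw [← AddSubgroup.mem_bot, ← h]
      exact ⟨⟨_, hmI m⟩, (by
        show P.δ ((P.δ ^ m) v) = 0
        rwa [← P.end_mul_apply, ← pow_succ']), rfl⟩
    have h3 : Nat.card I = Nat.card f.range * Nat.card f.ker := by
      rw [AddSubgroup.card_eq_card_quotient_mul_card_addSubgroup f.ker,
        Nat.card_congr (QuotientAddGroup.quotientKerEquivRange f).toEquiv]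
    rw [h3, pow_succ]
    exact Nat.mul_le_mul h1 h2

theorem card_A_le : Nat.card P.A ≤ p ^ P.k * Nat.card P.A₁ := by
  classical
  let f : Fin (p ^ P.k) × P.A₁ → P.A := fun z =>
    ⟨P.a ^ (z.1 : ℕ) * z.2, mul_mem (pow_mem P.ha _) (P.hA₁ z.2.2)⟩
  have hf : Function.Surjective f := by
    rintro ⟨t, ht⟩
    obtain ⟨i, u, hu, rfl⟩ := P.hgen t ht
    refine ⟨(⟨i % p ^ P.k, Nat.mod_lt _ (pow_pos hp.out.pos _)⟩,
      ⟨(P.a ^ p ^ P.k) ^ (i / p ^ P.k) * u, mul_mem (pow_mem P.hak _) hu⟩), Subtype.ext ?_⟩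
    show P.a ^ (i % p ^ P.k) * ((P.a ^ p ^ P.k) ^ (i / p ^ P.k) * u) = _
    rw [← mul_assoc, ← pow_mul, ← pow_add, Nat.mod_add_div]
  have := Nat.card_le_card_of_surjective f hf
  rwa [Nat.card_prod, Nat.card_fin] at this

/-- An abelian subgroup of largest order of a `p`-group containing `H` admits no such setup. -/
theorem false_of_maxAdm (hp5 : 5 ≤ p) {S : Subgroup G} (hHS : P.H ≤ S)
    (hA : P.A ∈ CfsgLib.PStab.maxAdm 0 S) : False := by
  classical
  obtain ⟨x, r, hx, hne⟩ := P.exists_vector hp5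
  set w := (r : P.R).1 x with hw
  obtain ⟨d, hd⟩ := P.proj_surjective w
  -- the commutators of `d` with `A`
  let cm : G → G := fun t => (d : G) * t * (d : G)⁻¹ * t⁻¹
  have hcm : ∀ t, cm t = (d : G) * t * (d : G)⁻¹ * t⁻¹ := fun _ => rfl
  set T : Set G := {z | ∃ t ∈ P.A, cm t = z} with hT
  set M : Subgroup G := Subgroup.closure T with hM
  have hcD : ∀ t : P.L, cm t ∈ P.D ∧ ∀ h : cm t ∈ P.D, P.proj ⟨cm t, h⟩ = w - P.ρ t w := by
    intro t
    have hmem : cm t ∈ P.D := by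
      have := mul_mem d.2 (P.conj_mem P.inv_D t.2 (inv_mem d.2))
      simpa [hcm, mul_assoc] using this
    refine ⟨hmem, fun h => ?_⟩
    have e : (⟨cm t, h⟩ : P.D) = d * P.conjD t d⁻¹ := Subtype.ext (by
      simp [hcm, P.conjD_apply, mul_assoc])
    rw [e, P.proj_mul, ← P.ρ_proj, P.proj_inv, hd, map_neg, sub_eq_add_neg]
  have hMD : M ≤ P.D := (Subgroup.closure_le _).2 (by
    rintro z ⟨t, ht, rfl⟩
    exact (hcD ⟨t, P.mem_L_A ht⟩).1)
  -- images lie in the isotropic submodule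
  let U : AddSubgroup P.W :=
    { carrier := {y | ∃ s : P.R₀, (s : P.R).1 x = y}
      zero_mem' := ⟨0, rfl⟩
      add_mem' := by rintro _ _ ⟨s, rfl⟩ ⟨s', rfl⟩; exact ⟨s + s', rfl⟩
      neg_mem' := by rintro _ ⟨s, rfl⟩; exact ⟨-s, rfl⟩ }
  have hUa : ∀ i : ℕ, P.ρ (P.aL ^ i) w ∈ U := by
    intro i
    refine ⟨P.τ₀^[i] r, ?_⟩
    rw [P.coe_τ₀_iterate]
    show ((P.τ^[i] (r : P.R) : P.R) : AddMonoid.End P.W) x = _
    rw [P.coe_τ_iterate, P.end_mul_apply, P.end_mul_apply]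
    congr 2
    have hj : ∀ j : ℕ, P.ρ (P.aL ^ j)⁻¹ x = x := by
      intro j
      have h1 : P.ρ P.aL⁻¹ x = x := by
        conv_lhs => rw [← hx]
        rw [← P.end_mul_apply, ← map_mul, inv_mul_cancel, map_one]; rfl
      induction j with
      | zero => rw [pow_zero, inv_one, map_one]; rfl
      | succ j ih => rw [pow_succ', mul_inv_rev, map_mul, P.end_mul_apply, h1, ih]
    exact hj i
  have hwU : w ∈ U := ⟨r, rfl⟩
  have hMU : ∀ m (hm : m ∈ M), P.proj ⟨m, hMD hm⟩ ∈ U := by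
    intro m hm
    induction hm using Subgroup.closure_induction with
    | mem z hz =>
      obtain ⟨t, ht, rfl⟩ := hz
      rw [(hcD ⟨t, P.mem_L_A ht⟩).2]
      refine U.sub_mem hwU ?_
      obtain ⟨i, u, hu, e⟩ := P.hgen t ht
      have : (⟨t, P.mem_L_A ht⟩ : P.L) = P.aL ^ i * ⟨u, P.mem_L_A (P.hA₁ hu)⟩ := Subtype.ext e
      rw [this, map_mul, P.ρ_U (l := ⟨u, P.mem_L_A (P.hA₁ hu)⟩) (Subgroup.mem_sup_right hu), mul_one]
      exact hUa i
    | one => exact U.zero_mem
    | mul y z hy hz ihy ihz => exact U.add_mem ihy ihz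
    | inv y hy ih => exact U.neg_mem ih
  have hMc : ∀ y ∈ M, ∀ z ∈ M, y * z = z * y := by
    intro y hy z hz
    obtain ⟨s, hs⟩ := hMU y hy
    obtain ⟨s', hs'⟩ := hMU z hz
    have h1 := P.isotropic (by omega) s s' x
    rw [hs, hs', P.β_proj, commutatorElement_eq_one_iff_mul_comm] at h1
    exact h1
  have hAM : ∀ t ∈ P.A, ∀ m ∈ M, t * m * t⁻¹ ∈ M := by
    intro t ht m hm
    induction hm using Subgroup.closure_induction with
    | mem z hz =>
      obtain ⟨s, hs, rfl⟩ := hz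
      have e : t * cm s * t⁻¹ = (cm t)⁻¹ * cm (t * s) := by simp only [hcm]; group
      rw [e]
      exact mul_mem (inv_mem (Subgroup.subset_closure ⟨t, ht, rfl⟩))
        (Subgroup.subset_closure ⟨_, mul_mem ht hs, rfl⟩)
    | one => simp
    | mul y z hy hz ihy ihz =>
      rw [show t * (y * z) * t⁻¹ = (t * y * t⁻¹) * (t * z * t⁻¹) by group]
      exact mul_mem ihy ihz
    | inv y hy ih =>
      rw [show t * y⁻¹ * t⁻¹ = (t * y * t⁻¹)⁻¹ by group]
      exact inv_mem ih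
  -- the map `m ↦ δ (m D₀)`
  let φ : M →* Multiplicative P.W :=
    { toFun := fun m => Multiplicative.ofAdd (P.δ (P.proj ⟨m, hMD m.2⟩))
      map_one' := by
        show Multiplicative.ofAdd (P.δ (P.proj 1)) = 1
        rw [P.proj_one, map_zero]; rfl
      map_mul' := fun m m' => by
        show Multiplicative.ofAdd (P.δ (P.proj (⟨m, hMD m.2⟩ * ⟨m', hMD m'.2⟩))) = _
        rw [P.proj_mul, map_add]; rfl }
  set I : AddSubgroup P.W := (P.δ : P.W →+ P.W).comp
    ({ toFun := fun m : Additive M => P.proj ⟨(Additive.toMul m : M), hMD (Additive.toMul m).2⟩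
       map_zero' := rfl
       map_add' := fun _ _ => rfl } : Additive M →+ P.W) |>.range with hI
  have hrange : Nat.card φ.range = Nat.card I :=
    Nat.card_congr { toFun := fun y => ⟨(y : Multiplicative P.W).toAdd, by
                      obtain ⟨m, hm⟩ := y.2
                      exact ⟨Additive.ofMul m, congrArg Multiplicative.toAdd hm⟩⟩
                     invFun := fun y => ⟨Multiplicative.ofAdd (y : P.W), by
                      obtain ⟨m, hm⟩ := y.2
                      exact ⟨Additive.toMul m, congrArg Multiplicative.ofAdd hm⟩⟩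
                     left_inv := fun _ => rfl
                     right_inv := fun _ => rfl }
  have hIstab : ∀ y ∈ I, P.δ y ∈ I := by
    rintro _ ⟨m, rfl⟩
    set m' : M := Additive.toMul m
    have hm2 : ⁅P.a, (m' : G)⁆ ∈ M := mul_mem (hAM _ P.ha _ m'.2) (inv_mem m'.2)
    refine ⟨Additive.ofMul ⟨_, hm2⟩, ?_⟩
    show P.δ (P.proj ⟨⁅P.a, (m' : G)⁆, hMD hm2⟩) = P.δ (P.δ (P.proj ⟨m', hMD m'.2⟩))
    congr 1
    have e : (⟨⁅P.a, (m' : G)⁆, hMD hm2⟩ : P.D) =
        P.conjD P.aL ⟨m', hMD m'.2⟩ * (⟨m', hMD m'.2⟩ : P.D)⁻¹ := Subtype.ext rfl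
    rw [e, P.proj_mul, P.proj_inv, ← P.ρ_proj, ← sub_eq_add_neg]
    rfl
  have hca : cm P.a ∈ M := Subgroup.subset_closure ⟨P.a, P.ha, rfl⟩
  have hcard1 : p ^ (P.k + 1) ≤ Nat.card φ.range := by
    rw [hrange]
    refine P.le_card_stable P.k I hIstab (P.δ (P.proj ⟨cm P.a, hMD hca⟩))
      ⟨Additive.ofMul ⟨_, hca⟩, rfl⟩ ?_
    have e := (hcD P.aL).2 (hMD hca)
    rw [e, show w - P.ρ P.aL w = -(P.δ w) by rw [← neg_sub]; rfl]
    rw [map_neg, map_neg, ← P.end_mul_apply, ← P.end_mul_apply, ← pow_succ, ← pow_succ,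
      neg_ne_zero]
    exact hne
  -- `M ∩ A` is in the kernel
  set Kf : Subgroup G := φ.ker.map M.subtype with hKf
  have hAker : M ⊓ P.A ≤ Kf := by
    rintro e ⟨heM, heA⟩
    refine ⟨⟨e, heM⟩, ?_, rfl⟩
    show Multiplicative.ofAdd (P.δ (P.proj ⟨e, hMD heM⟩)) = 1
    have h1 : P.conjD P.aL ⟨e, hMD heM⟩ = (⟨e, hMD heM⟩ : P.D) := Subtype.ext (by
      rw [P.conjD_apply]
      show P.a * e * P.a⁻¹ = e
      rw [P.hAc _ P.ha _ heA, mul_inv_cancel_right])
    show Multiplicative.ofAdd (P.ρ P.aL (P.proj ⟨e, hMD heM⟩) - P.proj ⟨e, hMD heM⟩) = 1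
    rw [P.ρ_proj, h1, sub_self]; rfl
  have hker : ∀ t ∈ P.A₁, cm t ∈ Kf := by
    intro t ht
    have hm : cm t ∈ M := Subgroup.subset_closure ⟨t, P.hA₁ ht, rfl⟩
    refine ⟨⟨_, hm⟩, ?_, rfl⟩
    show Multiplicative.ofAdd (P.δ (P.proj ⟨cm t, hMD hm⟩)) = 1
    rw [(hcD ⟨t, P.mem_L_A (P.hA₁ ht)⟩).2, P.ρ_U (Subgroup.mem_sup_right ht : t ∈ _)]
    show Multiplicative.ofAdd (P.δ (w - w)) = 1
    rw [sub_self, map_zero]; rfl
  set C : Subgroup G := P.A ⊓ Subgroup.centralizer (M : Set G) with hC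
  -- the fibres
  have hfib : ∀ t ∈ P.A, ∀ s ∈ P.A, ∀ e ∈ M ⊓ P.A, cm t = cm s * e → s⁻¹ * t ∈ C := by
    intro t ht s hs e he hts
    refine ⟨P.A.mul_mem (P.A.inv_mem hs) ht, Subgroup.mem_centralizer_iff.2 ?_⟩
    set u := s⁻¹ * t with hu
    have huA : u ∈ P.A := mul_mem (inv_mem hs) ht
    have hy : (d : G) * u * (d : G)⁻¹ = s⁻¹ * e * t := by
      have e1 : (d : G) * t * (d : G)⁻¹ = cm t * t := by simp [hcm]
      have e2 : (d : G) * s * (d : G)⁻¹ = cm s * s := by simp [hcm]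
      calc (d : G) * u * (d : G)⁻¹ = ((d : G) * s * (d : G)⁻¹)⁻¹ * ((d : G) * t * (d : G)⁻¹) := by
            rw [hu]; group
        _ = s⁻¹ * e * t := by rw [e1, e2, hts]; group
    have hyA : (d : G) * u * (d : G)⁻¹ ∈ P.A := hy ▸ mul_mem (mul_mem (inv_mem hs) he.2) ht
    suffices h : ∀ v ∈ P.A, cm v * u = u * cm v by
      intro m hm
      induction hm using Subgroup.closure_induction with
      | mem z hz => obtain ⟨v, hv, rfl⟩ := hz; exact h v hv
      | one => simp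
      | mul y z _ _ ihy ihz => rw [mul_assoc, ihz, ← mul_assoc, ihy, mul_assoc]
      | inv y _ ih => exact (Commute.inv_left (ih : Commute y u)).eq
    intro v hv
    set y := (d : G) * u * (d : G)⁻¹
    have h1 : Commute y (cm v) := by
      have a1 : Commute y v := P.hAc _ hyA _ hv
      have a2 : Commute y ((d : G) * v * (d : G)⁻¹) :=
        (show Commute u v from P.hAc _ huA _ hv).map (MulAut.conj (d : G)).toMonoidHom
      exact a2.mul_right a1.inv_right
    have h2 : Commute (cm u) (cm v) :=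
      hMc _ (Subgroup.subset_closure ⟨u, huA, rfl⟩) _ (Subgroup.subset_closure ⟨v, hv, rfl⟩)
    have h3 : u = (cm u)⁻¹ * y := by simp only [hcm, y]; group
    rw [h3]
    exact (h2.inv_left.mul_left h1).symm.eq
  -- counting
  let val : P.A₁ × ↥(M ⊓ P.A) → Kf := fun z =>
    ⟨cm z.1 * z.2, mul_mem (hker _ z.1.2) (hAker z.2.2)⟩
  let rep : P.A₁ × ↥(M ⊓ P.A) → P.A₁ := fun z => (Function.invFun val (val z)).1
  have hrep : ∀ z, (rep z : G)⁻¹ * z.1 ∈ P.A₁ ⊓ C := by
    intro z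
    have h := congrArg Subtype.val (Function.invFun_eq (f := val) ⟨z, rfl⟩)
    set z' := Function.invFun val (val z)
    refine ⟨P.A₁.mul_mem (P.A₁.inv_mem z'.1.2) z.1.2, hfib _ (P.hA₁ z.1.2) _ (P.hA₁ z'.1.2)
      ((z'.2 : G) * (z.2 : G)⁻¹) ((M ⊓ P.A).mul_mem z'.2.2 ((M ⊓ P.A).inv_mem z.2.2)) ?_⟩
    change cm z'.1 * (z'.2 : G) = cm z.1 * (z.2 : G) at h
    rw [← mul_assoc, h, mul_inv_cancel_right]
  have hcard2 : Nat.card P.A₁ * Nat.card ↥(M ⊓ P.A) ≤ Nat.card Kf * Nat.card C := by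
    rw [← Nat.card_prod, ← Nat.card_prod]
    refine Nat.card_le_card_of_injective
      (fun z => (val z, (⟨(rep z : G)⁻¹ * z.1, (hrep z).2⟩ : C))) fun z z' h => ?_
    obtain ⟨h1, h2⟩ := Prod.mk.injEq _ _ _ _ ▸ h
    have h2' : (rep z : G)⁻¹ * z.1 = (rep z' : G)⁻¹ * z'.1 := congrArg Subtype.val h2
    have h3 : rep z = rep z' := by simp only [rep, h1]
    rw [h3] at h2'
    have h4 : z.1 = z'.1 := Subtype.ext (mul_left_cancel h2')
    have h5 : cm z.1 * (z.2 : G) = cm z'.1 * (z'.2 : G) := congrArg Subtype.val h1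
    rw [h4] at h5
    exact Prod.ext h4 (Subtype.ext (mul_left_cancel h5))
  have hcardM : Nat.card M = Nat.card φ.range * Nat.card Kf := by
    rw [Subgroup.card_map_of_injective M.subtype_injective,
      Subgroup.card_eq_card_quotient_mul_card_subgroup φ.ker,
      Nat.card_congr (QuotientGroup.quotientKerEquivRange φ).toEquiv]
  -- the abelian subgroup `M C`
  have hMC : Nat.card M * Nat.card C ≤ Nat.card P.A * Nat.card ↥(M ⊓ P.A) := by
    have hcomm : ∀ y ∈ (M : Set G) ∪ C, ∀ z ∈ (M : Set G) ∪ C, y * z = z * y := by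
      rintro y (hy | hy) z (hz | hz)
      · exact hMc y hy z hz
      · exact Subgroup.mem_centralizer_iff.1 hz.2 y hy
      · exact (Subgroup.mem_centralizer_iff.1 hy.2 z hz).symm
      · exact P.hAc y hy.1 z hz.1
    have hadm : CfsgLib.PStab.Adm 0 (M ⊔ C) := by
      refine ⟨?_, fun a _ => pow_zero a⟩
      rw [show M ⊔ C = Subgroup.closure ((M : Set G) ∪ C) by
        rw [Subgroup.closure_union, Subgroup.closure_eq, Subgroup.closure_eq]]
      exact Subgroup.isMulCommutative_closure hcomm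
    have hle : M ⊔ C ≤ S :=
      sup_le (hMD.trans (P.inv_D.1.trans hHS)) (inf_le_left.trans hA.1)
    have hb := hA.2.2 _ hle hadm
    have hset : (M : Set G) * (C : Set G) ⊆ ((M ⊔ C : Subgroup G) : Set G) := by
      rintro _ ⟨a, ha, b, hb, rfl⟩
      exact mul_mem (Subgroup.mem_sup_left ha) (Subgroup.mem_sup_right hb)
    have hinf : M ⊓ C ≤ M ⊓ P.A := inf_le_inf_left _ inf_le_left
    -- `(m, c) ↦ m c` has fibres inside `M ∩ C`
    let g : M × C → ↥(M ⊔ C) := fun z => ⟨z.1 * z.2, hset (Set.mul_mem_mul z.1.2 z.2.2)⟩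
    let rp : M × C → M := fun z => (Function.invFun g (g z)).1
    have hrp : ∀ z, (rp z : G)⁻¹ * z.1 ∈ M ⊓ P.A := by
      intro z
      have h := congrArg Subtype.val (Function.invFun_eq (f := g) ⟨z, rfl⟩)
      set z' := Function.invFun g (g z)
      change (z'.1 : G) * z'.2 = z.1 * z.2 at h
      refine hinf ⟨M.mul_mem (M.inv_mem z'.1.2) z.1.2, ?_⟩
      have e : (z'.1 : G)⁻¹ * z.1 = z'.2 * (z.2 : G)⁻¹ := by
        rw [eq_mul_inv_iff_mul_eq, mul_assoc, ← h, inv_mul_cancel_left]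
      rw [e]
      exact C.mul_mem z'.2.2 (C.inv_mem z.2.2)
    have hinj : Nat.card (M × C) ≤ Nat.card (↥(M ⊔ C) × ↥(M ⊓ P.A)) := by
      refine Nat.card_le_card_of_injective
        (fun z => (g z, (⟨(rp z : G)⁻¹ * z.1, hrp z⟩ : ↥(M ⊓ P.A)))) fun z z' h => ?_
      obtain ⟨h1, h2⟩ := Prod.mk.injEq _ _ _ _ ▸ h
      have h2' : (rp z : G)⁻¹ * z.1 = (rp z' : G)⁻¹ * z'.1 := congrArg Subtype.val h2
      have h3 : rp z = rp z' := by simp only [rp, h1]
      rw [h3] at h2'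
      have h4 : z.1 = z'.1 := Subtype.ext (mul_left_cancel h2')
      have h5 : (z.1 : G) * z.2 = z'.1 * z'.2 := congrArg Subtype.val h1
      rw [h4] at h5
      exact Prod.ext h4 (Subtype.ext (mul_left_cancel h5))
    rw [Nat.card_prod, Nat.card_prod] at hinj
    exact hinj.trans (Nat.mul_le_mul_right _ hb)
  have hA1 := P.card_A_le
  have hpos : 0 < p ^ P.k * (Nat.card Kf * Nat.card C) :=
    Nat.mul_pos (pow_pos hp.out.pos _) (Nat.mul_pos Nat.card_pos Nat.card_pos)
  have key : p ^ (P.k + 1) * (Nat.card Kf * Nat.card C) ≤ p ^ P.k * (Nat.card Kf * Nat.card C) :=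
    calc p ^ (P.k + 1) * (Nat.card Kf * Nat.card C) ≤ Nat.card φ.range * (Nat.card Kf * Nat.card C) :=
          Nat.mul_le_mul_right _ hcard1
      _ = Nat.card M * Nat.card C := by rw [hcardM, mul_assoc]
      _ ≤ Nat.card P.A * Nat.card ↥(M ⊓ P.A) := hMC
      _ ≤ p ^ P.k * Nat.card P.A₁ * Nat.card ↥(M ⊓ P.A) := Nat.mul_le_mul_right _ hA1
      _ ≤ p ^ P.k * (Nat.card Kf * Nat.card C) := by
          rw [mul_assoc]; exact Nat.mul_le_mul_left _ hcard2
  rw [pow_succ, mul_comm (p ^ P.k) p, mul_assoc] at key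
  have : 2 * (p ^ P.k * (Nat.card Kf * Nat.card C)) ≤ p * (p ^ P.k * (Nat.card Kf * Nat.card C)) :=
    Nat.mul_le_mul_right _ hp.out.two_le
  omega

end CfsgLib.LocalEven.JComplement.Setup
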