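import Cfsg.Agent.Lib.Solvable.Basic
import Cfsg.Agent.Lib.Local.AB
import Cfsg.Agent.Lib.PGroup.Basic

/-!
The minimal section of `O_p(G)` moved by a `p'`-group, for the normal `p`-complement criterion
with `J(S)`.
-/

set_option autoImplicit false

open scoped commutatorElement

namespace CfsgLib.LocalEven.JComplement

variable {G : Type*} [Group G] [Finite G] {p : ℕ} [hp : Fact p.Prime]

/-- If `q` of order prime to `p` centralises its commutator with `x` in a `p`-group, it centralises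
`x`. -/
theorem commute_of_commute_commutator {D : Subgroup G} (hD : IsPGroup p D) {q x : G}
    (hq : (orderOf q).Coprime p) (hc : ⁅q, x⁆ ∈ D) (hqc : q * ⁅q, x⁆ = ⁅q, x⁆ * q) :
    q * x = x * q := by
  set c := ⁅q, x⁆ with hcd
  have h1 : ∀ j : ℕ, q ^ j * x * (q ^ j)⁻¹ = c ^ j * x := by
    intro j
    induction j with
    | zero => simp
    | succ j ih =>
      calc q ^ (j + 1) * x * (q ^ (j + 1))⁻¹ = q * (q ^ j * x * (q ^ j)⁻¹) * q⁻¹ := by
            rw [pow_succ']; group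
        _ = q * c ^ j * x * q⁻¹ := by rw [ih]; group
        _ = c ^ j * q * x * q⁻¹ := by rw [((show Commute q c from hqc).pow_right j).eq]
        _ = c ^ (j + 1) * x := by rw [pow_succ, hcd, commutatorElement_def]; group
  have h2 := h1 (orderOf q)
  rw [pow_orderOf_eq_one, inv_one, one_mul, mul_one, right_eq_mul] at h2
  obtain ⟨j, hj⟩ := hD ⟨c, hc⟩
  have h3 : c ^ p ^ j = 1 := congrArg Subtype.val hj
  have h4 : c = 1 := by
    have := pow_gcd_eq_one.2 ⟨h2, h3⟩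
    rwa [(hq.pow_right j).gcd_eq_one, pow_one] at this
  rw [hcd, commutatorElement_eq_one_iff_mul_comm] at h4
  exact h4

/-- The configuration: `a` generates the abelian `p`-group `A` over `A₁`, the abelian `p'`-group
`K / H` is centralised by `A₁` and is minimal with respect to being moved by `a ^ p ^ (k - 1)`. -/
structure Setup (p : ℕ) (G : Type*) [Group G] where
  /-- the `p`-group -/
  H : Subgroup G
  /-- the extension of `H` -/
  K : Subgroup G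
  /-- the abelian `p`-group -/
  A : Subgroup G
  /-- the kernel -/
  A₁ : Subgroup G
  /-- the generator -/
  a : G
  /-- the exponent -/
  k : ℕ
  hHp : IsPGroup p H
  hAp : IsPGroup p A
  hHn : H.Normal
  hHK : H ≤ K
  hcop : (H.relIndex K).Coprime p
  hab : ∀ x ∈ K, ∀ y ∈ K, ⁅x, y⁆ ∈ H
  hAK : A ≤ Subgroup.normalizer (K : Set G)
  hAc : ∀ x ∈ A, ∀ y ∈ A, x * y = y * x
  hA₁ : A₁ ≤ A
  ha : a ∈ A
  hk : 1 ≤ k
  hak : a ^ p ^ k ∈ A₁
  hgen : ∀ t ∈ A, ∃ i : ℕ, ∃ u ∈ A₁, t = a ^ i * u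
  hA₁K : ∀ t ∈ A₁, ∀ g ∈ K, ⁅t, g⁆ ∈ H
  hex : ∃ g ∈ K, ⁅a ^ p ^ (k - 1), g⁆ ∉ H
  hmin : ∀ X : Subgroup G, H ≤ X → X ≤ K → A ≤ Subgroup.normalizer (X : Set G) →
    (∃ g ∈ X, ⁅a ^ p ^ (k - 1), g⁆ ∉ H) → X = K
  hc : Subgroup.centralizer (H : Set G) ≤ H

namespace Setup

variable (P : Setup p G)

/-- The elements of `K` of order prime to `p`. -/
def Qs : Set G := {g | g ∈ P.K ∧ (orderOf g).Coprime p}

/-- Centralised by the elements of `K` of order prime to `p`. -/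
def Fixed (X : Subgroup G) : Prop := X ≤ Subgroup.centralizer P.Qs

/-- Subgroups of `H` invariant under `K` and `A`. -/
def Inv (X : Subgroup G) : Prop := X ≤ P.H ∧ P.K ⊔ P.A ≤ Subgroup.normalizer (X : Set G)

theorem conj_mem {X : Subgroup G} (h : P.Inv X) {l x : G} (hl : l ∈ P.K ⊔ P.A) (hx : x ∈ X) :
    l * x * l⁻¹ ∈ X :=
  (Subgroup.mem_normalizer_iff.1 (h.2 hl) x).1 hx

theorem inv_closure {T : Set G} (hT : T ⊆ P.H)
    (h : ∀ l ∈ P.K ⊔ P.A, ∀ x ∈ T, l * x * l⁻¹ ∈ T) : P.Inv (Subgroup.closure T) := by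
  refine ⟨(Subgroup.closure_le _).2 hT, fun l hl => CfsgLib.Solvable.mem_normalizer_of_conj_mem ?_⟩
  show Subgroup.closure T ≤ (Subgroup.closure T).comap (MulAut.conj l).toMonoidHom
  exact (Subgroup.closure_le _).2 fun x hx => Subgroup.subset_closure (h l hl x hx)

theorem exists_decomp {g : G} (hg : g ∈ P.K) : ∃ h ∈ P.H, ∃ q ∈ P.Qs, g = h * q := by
  haveI := P.hHn
  obtain ⟨N, hN⟩ := IsPGroup.iff_card.1 P.hHp
  set n := P.H.relIndex P.K with hn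
  have h1 : g ^ n ∈ P.H := by
    have := Subgroup.pow_index_mem (H := P.H.subgroupOf P.K) (⟨g, hg⟩ : P.K)
    exact this
  obtain ⟨u, v, huv⟩ := Nat.isCoprime_iff_coprime.2 (P.hcop.pow_right N)
  refine ⟨g ^ (u * n), ?_, g ^ (v * (p ^ N : ℕ)), ⟨zpow_mem hg _, ?_⟩, ?_⟩
  · rw [mul_comm, zpow_mul, zpow_natCast]
    exact zpow_mem h1 u
  · refine Nat.Coprime.coprime_dvd_left (orderOf_dvd_of_pow_eq_one (n := n) ?_) P.hcop
    rw [← zpow_natCast, ← zpow_mul, show v * (p ^ N : ℕ) * (n : ℤ) = (n : ℤ) * ((p ^ N : ℕ) * v) by ring,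
      zpow_mul, zpow_natCast, zpow_mul, zpow_natCast]
    have : (⟨g ^ n, h1⟩ : P.H) ^ Nat.card P.H = 1 := pow_card_eq_one'
    rw [hN] at this
    rw [show (g ^ n) ^ p ^ N = 1 from congrArg Subtype.val this, one_zpow]
  · rw [← zpow_add, huv, zpow_one]

theorem not_fixed_H : ¬ P.Fixed P.H := by
  intro hfix
  haveI := P.hHn
  obtain ⟨g, hg, hgb⟩ := P.hex
  refine hgb ?_
  have hKH : g ∈ P.H := by
    obtain ⟨h, hh, q, hq, rfl⟩ := P.exists_decomp hg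
    refine mul_mem hh (P.hc (Subgroup.mem_centralizer_iff.2 fun x hx => ?_))
    exact (Subgroup.mem_centralizer_iff.1 (hfix hx) q hq).symm
  rw [commutatorElement_def]
  exact mul_mem (P.hHn.conj_mem _ hKH _) (inv_mem hKH)

theorem inv_H : P.Inv P.H :=
  ⟨le_rfl, by haveI := P.hHn; rw [Subgroup.normalizer_eq_top]; exact le_top⟩

theorem exists_D : ∃ D : Subgroup G, (P.Inv D ∧ ¬ P.Fixed D) ∧
    ∀ X : Subgroup G, P.Inv X → X ≤ D → ¬ P.Fixed X → X = D := by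
  obtain ⟨D, hD, hmin⟩ := (Set.toFinite {X : Subgroup G | P.Inv X ∧ ¬ P.Fixed X}).exists_minimalFor
    (fun X : Subgroup G => Nat.card X) _ ⟨P.H, P.inv_H, P.not_fixed_H⟩
  refine ⟨D, hD, fun X hX hXD hXf => ?_⟩
  rcases le_or_gt (Nat.card D) (Nat.card X) with h | h
  · exact Subgroup.eq_of_le_of_card_ge hXD h
  · exact absurd (hmin ⟨hX, hXf⟩ h.le) h.not_ge

/-- The minimal moved invariant subgroup. -/
noncomputable def D : Subgroup G := P.exists_D.choose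

theorem inv_D : P.Inv P.D := P.exists_D.choose_spec.1.1

theorem not_fixed_D : ¬ P.Fixed P.D := P.exists_D.choose_spec.1.2

theorem D_min {X : Subgroup G} (hX : P.Inv X) (hle : X ≤ P.D) (hne : X ≠ P.D) : P.Fixed X :=
  not_not.1 fun h => hne (P.exists_D.choose_spec.2 X hX hle h)

theorem isPGroup_D : IsPGroup p P.D := P.hHp.to_le P.inv_D.1

theorem D_ne_bot : P.D ≠ ⊥ := fun h => P.not_fixed_D (by rw [h]; exact bot_le)

/-- The largest proper invariant subgroup of `D`. -/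
noncomputable def D₀ : Subgroup G := sSup {X | P.Inv X ∧ X ≤ P.D ∧ X ≠ P.D}

theorem le_D₀ {X : Subgroup G} (hX : P.Inv X) (hle : X ≤ P.D) (hne : X ≠ P.D) : X ≤ P.D₀ :=
  le_sSup ⟨hX, hle, hne⟩

theorem D₀_le : P.D₀ ≤ P.D := sSup_le fun _ h => h.2.1

theorem fixed_D₀ : P.Fixed P.D₀ := sSup_le fun _ h => P.D_min h.1 h.2.1 h.2.2

theorem D₀_ne : P.D₀ ≠ P.D := fun h => P.not_fixed_D (h ▸ P.fixed_D₀)

theorem inv_D₀ : P.Inv P.D₀ := by
  refine ⟨P.D₀_le.trans P.inv_D.1, fun l hl => CfsgLib.Solvable.mem_normalizer_of_conj_mem ?_⟩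
  show P.D₀ ≤ P.D₀.comap (MulAut.conj l).toMonoidHom
  exact sSup_le fun X hX x hx => (le_sSup hX : X ≤ P.D₀) (P.conj_mem hX.1 hl hx)

theorem comm_pow_mem_D₀ : (∀ x ∈ P.D, ∀ y ∈ P.D, ⁅x, y⁆ ∈ P.D₀) ∧ ∀ x ∈ P.D, x ^ p ∈ P.D₀ := by
  set T : Set G := {z | (∃ x ∈ P.D, ∃ y ∈ P.D, ⁅x, y⁆ = z) ∨ ∃ x ∈ P.D, x ^ p = z} with hT
  haveI : Nontrivial P.D := (Subgroup.nontrivial_iff_ne_bot _).2 P.D_ne_bot
  obtain ⟨M, hM⟩ := (eq_top_or_exists_le_coatom (⊥ : Subgroup P.D)).resolve_left bot_ne_top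
  have hMn := CfsgLib.PGroup.normal_of_isCoatom P.isPGroup_D hM.1
  have hidx := CfsgLib.PGroup.index_of_isCoatom P.isPGroup_D hM.1
  have hcard : Nat.card (P.D ⧸ M) = p := M.index_eq_card.symm.trans hidx
  have hcomm : ∀ u v : P.D ⧸ M, u * v = v * u := by
    haveI : IsCyclic (P.D ⧸ M) := isCyclic_of_prime_card hcard
    letI := IsCyclic.commGroup (α := P.D ⧸ M)
    exact mul_comm
  have hTM : T ⊆ (M.map P.D.subtype : Subgroup G) := by
    rintro z (⟨x, hx, y, hy, rfl⟩ | ⟨x, hx, rfl⟩)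
    · refine ⟨⁅(⟨x, hx⟩ : P.D), ⟨y, hy⟩⁆, (QuotientGroup.eq_one_iff _).1 ?_, rfl⟩
      show QuotientGroup.mk' M ⁅_, _⁆ = 1
      rw [map_commutatorElement, commutatorElement_eq_one_iff_mul_comm]
      exact hcomm _ _
    · refine ⟨(⟨x, hx⟩ : P.D) ^ p, (QuotientGroup.eq_one_iff _).1 ?_, rfl⟩
      show QuotientGroup.mk' M (_ ^ p) = 1
      rw [map_pow]
      exact orderOf_dvd_iff_pow_eq_one.1 ((orderOf_dvd_natCard _).trans (dvd_of_eq hcard))
  have hTH : T ⊆ P.H := fun z hz => P.inv_D.1 (Subgroup.map_subtype_le M (hTM hz))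
  have hinv : P.Inv (Subgroup.closure T) := P.inv_closure hTH fun l hl z hz => by
    rcases hz with ⟨x, hx, y, hy, rfl⟩ | ⟨x, hx, rfl⟩
    · exact Or.inl ⟨_, P.conj_mem P.inv_D hl hx, _, P.conj_mem P.inv_D hl hy,
        (conjugate_commutatorElement x y l).symm⟩
    · exact Or.inr ⟨_, P.conj_mem P.inv_D hl hx, conj_pow⟩
  have hle : Subgroup.closure T ≤ M.map P.D.subtype := (Subgroup.closure_le _).2 hTM
  have hne : Subgroup.closure T ≠ P.D := fun h => hM.1.1 (by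
    rw [eq_top_iff]
    intro d _
    obtain ⟨m, hm, hmd⟩ := hle (h.symm ▸ d.2 : (d : G) ∈ Subgroup.closure T)
    exact Subtype.ext hmd ▸ hm)
  have := P.le_D₀ hinv (hle.trans (Subgroup.map_subtype_le M)) hne
  exact ⟨fun x hx y hy => this (Subgroup.subset_closure (Or.inl ⟨x, hx, y, hy, rfl⟩)),
    fun x hx => this (Subgroup.subset_closure (Or.inr ⟨x, hx, rfl⟩))⟩

theorem mem_L_K {g : G} (h : g ∈ P.K) : g ∈ P.K ⊔ P.A := Subgroup.mem_sup_left h

theorem mem_L_A {g : G} (h : g ∈ P.A) : g ∈ P.K ⊔ P.A := Subgroup.mem_sup_right h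

theorem U_invariant : P.K ⊔ P.A ≤ Subgroup.normalizer ((P.H ⊔ P.A₁ : Subgroup G) : Set G) := by
  haveI := P.hHn
  refine sup_le (fun g hg => ?_) (fun g hg => ?_) <;>
    refine CfsgLib.Solvable.mem_normalizer_of_conj_mem ?_ <;>
    show P.H ⊔ P.A₁ ≤ (P.H ⊔ P.A₁).comap (MulAut.conj g).toMonoidHom <;>
    refine sup_le (fun h hh => Subgroup.mem_sup_left (P.hHn.conj_mem h hh g)) (fun t ht => ?_) <;>
    show g * t * g⁻¹ ∈ P.H ⊔ P.A₁
  · have : g * t * g⁻¹ = (⁅t, g⁆)⁻¹ * t := by rw [commutatorElement_def]; group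
    rw [this]
    exact mul_mem (Subgroup.mem_sup_left (inv_mem (P.hA₁K t ht g hg))) (Subgroup.mem_sup_right ht)
  · rw [P.hAc g hg t (P.hA₁ ht), mul_inv_cancel_right]
    exact Subgroup.mem_sup_right ht

theorem comm_U_mem_D₀ {x t : G} (hx : x ∈ P.D) (ht : t ∈ P.H ⊔ P.A₁) : ⁅x, t⁆ ∈ P.D₀ := by
  haveI := P.hHn
  have hUp : IsPGroup p ↥(P.H ⊔ P.A₁) := P.hHp.to_sup_of_normal_left (P.hAp.to_le P.hA₁)
  have hUn : P.H ⊔ P.A₁ ≤ Subgroup.normalizer (P.D : Set G) :=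
    (sup_le (P.hHK.trans le_sup_left) (P.hA₁.trans le_sup_right)).trans P.inv_D.2
  have hlt := CfsgLib.Local.commutator_lt_of_isPGroup P.isPGroup_D hUp hUn P.D_ne_bot
  refine P.le_D₀ ⟨hlt.le.trans P.inv_D.1, ?_⟩ hlt.le hlt.ne (Subgroup.commutator_mem_commutator hx ht)
  exact fun l hl => CfsgLib.Solvable.normalizer_le_normalizer_commutator _ _
    ⟨P.inv_D.2 hl, P.U_invariant hl⟩

/-- `D₀` is central in `D`. -/
theorem D₀_central {f x : G} (hf : f ∈ P.D₀) (hx : x ∈ P.D) : f * x = x * f := by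
  set C := P.D ⊓ Subgroup.centralizer (P.D₀ : Set G) with hC
  suffices h : C = P.D from Subgroup.mem_centralizer_iff.1 (h.ge hx : x ∈ C).2 f hf
  by_contra hne
  have hinv : P.Inv C := ⟨inf_le_left.trans P.inv_D.1, fun l hl =>
    CfsgLib.Solvable.le_normalizer_inf (A := P.K ⊔ P.A) P.inv_D.2
      (P.inv_D₀.2.trans (CfsgLib.Solvable.normalizer_le_normalizer_centralizer P.D₀)) hl⟩
  refine P.not_fixed_D fun d hd => Subgroup.mem_centralizer_iff.2 fun q hq => ?_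
  have hcD : ⁅q, d⁆ ∈ P.D := mul_mem (P.conj_mem P.inv_D (P.mem_L_K hq.1) hd) (inv_mem hd)
  have hcC : ⁅q, d⁆ ∈ P.D₀ := P.le_D₀ hinv inf_le_left hne ⟨hcD, Subgroup.mem_centralizer_iff.2
    fun f hf => ?_⟩
  · exact commute_of_commute_commutator P.isPGroup_D hq.2 hcD
      (Subgroup.mem_centralizer_iff.1 (P.fixed_D₀ hcC) q hq)
  -- `q` fixes `f` and the commutator of `d` with `f`
  have hcq : ∀ z ∈ P.D₀, q * z = z * q := fun z hz =>
    Subgroup.mem_centralizer_iff.1 (P.fixed_D₀ hz) q hq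
  have h1 : d * f * d⁻¹ ∈ P.D₀ :=
    P.conj_mem P.inv_D₀ (P.mem_L_K (P.hHK (P.inv_D.1 hd))) hf
  have e1 : q⁻¹ * f * q = f := by rw [mul_assoc, ← hcq f hf, inv_mul_cancel_left]
  have e2 : q * (d * f * d⁻¹) * q⁻¹ = d * f * d⁻¹ := by rw [hcq _ h1, mul_inv_cancel_right]
  have e4 : d⁻¹ * f * d ∈ P.D₀ := by
    have := P.conj_mem P.inv_D₀ (P.mem_L_K (P.hHK (P.inv_D.1 (inv_mem hd)))) hf
    simpa using this
  have e5 : ⁅q, d⁆ * f * (⁅q, d⁆)⁻¹ = f := by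
    rw [commutatorElement_def]
    calc q * d * q⁻¹ * d⁻¹ * f * (q * d * q⁻¹ * d⁻¹)⁻¹
        = q * (d * (q⁻¹ * (d⁻¹ * f * d) * q) * d⁻¹) * q⁻¹ := by group
      _ = q * (d * (d⁻¹ * f * d) * d⁻¹) * q⁻¹ := by
          rw [mul_assoc q⁻¹ (d⁻¹ * f * d) q, ← hcq _ e4, inv_mul_cancel_left]
      _ = q * f * q⁻¹ := by group
      _ = f := by rw [hcq f hf, mul_inv_cancel_right]
  exact (mul_inv_eq_iff_eq_mul.1 e5).symm

end Setup

end CfsgLib.LocalEven.JComplement
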