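import Cfsg.Agent.Lib.LocalEven.JComplement.Selection
import Cfsg.Agent.Lib.LocalEven.ThompsonComplement
import Cfsg.Agent.Lib.LocalEven.SubnormalSylow

/-!
Thompson: for `p ≥ 5` the group has a normal `p`-complement once the normaliser of `J(S)` has one.
-/

set_option autoImplicit false

open scoped commutatorElement

namespace CfsgLib.LocalEven.JComplement

open Cfsg CfsgLib.PStab

universe u

variable {p : ℕ} [hp : Fact p.Prime]

theorem npc_statement (hp5 : 5 ≤ p) (n : ℕ) : ∀ (G : Type u) [Group G] [Finite G] (P : Sylow p G),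
    Nat.card G = n → HasNormalPComplement p (Subgroup.normalizer (jGen 0 (P : Subgroup G) : Set G)) →
    HasNormalPComplement p G := by
  induction n using Nat.strong_induction_on with
  | _ n ih =>
  intro G _ _ P hn hJ
  by_contra hG
  obtain ⟨hHne, hprop, hKbad⟩ := reduce_pCore P (fun P1 => jGen 0 P1) (fun P1 _ => jGen_le 0 P1)
    (fun P1 h1 _ h3 => jGen_ne_bot (Or.inl rfl) (P.2.to_le h1) h3)
    (fun P1 _ => inf_le_right.trans (normalizer_le_normalizer_jGen 0 P1)) hJ
    (fun N hN hT _ h => by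
      obtain ⟨T, hT⟩ := hT
      have hlt : Nat.card N < n := hn ▸ lt_of_le_of_ne (Subgroup.card_le_card_group N)
          fun e => hN (Subgroup.eq_top_of_card_eq N e)
      refine ih _ hlt N T rfl (npc_congr_subgroupOf ?_ h)
      rw [← jGen_map N.subtype_injective, hT])
    hG
  by_cases hO : pPrimeCore p G = ⊥
  swap
  · apply hG
    set N := pPrimeCore p G
    have hNc := CfsgLib.Cores.coprime_card_pPrimeCore (G := G) p
    refine npc_of_quotient hNc ?_
    set π := QuotientGroup.mk' N
    have hπ : Function.Surjective π := QuotientGroup.mk'_surjective N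
    have hinj : Function.Injective (π.comp (P : Subgroup G).subtype) := by
      rw [injective_iff_map_eq_one]
      intro x hx
      have hxN : (x : G) ∈ N := (QuotientGroup.eq_one_iff _).1 hx
      exact CfsgLib.Transfer.eq_one_of_coprime_of_isPGroup P.2
        (Nat.Coprime.coprime_dvd_left (Subgroup.orderOf_coe x ▸ Subgroup.orderOf_dvd_natCard N hxN) hNc)
    have hPb : ((P.mapSurjective hπ : Sylow p (G ⧸ N)) : Subgroup (G ⧸ N)) = (P : Subgroup G).map π := rfl
    refine ih _ (hn ▸ CfsgLib.Solvable.card_quotient_lt _ hO) (G ⧸ N) (P.mapSurjective hπ) rfl ?_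
    rw [hPb]
    have h1 : (P : Subgroup G) = (⊤ : Subgroup P).map (P : Subgroup G).subtype := by
      rw [← MonoidHom.range_eq_map, Subgroup.range_subtype]
    have h2 := jGen_map (e := 0) hinj (⊤ : Subgroup P)
    rw [← Subgroup.map_map, ← h1] at h2
    rw [h2, ← Subgroup.map_map, ← jGen_map (P : Subgroup G).subtype_injective, ← h1]
    exact npc_of_le_map π (normalizer_map_le hNc (P.2.to_le (jGen_le _ _))) hJ
  set H := pCore p G with hH
  have hHp := CfsgLib.Cores.isPGroup_pCore p (G := G)
  have hHP : H ≤ (P : Subgroup G) := CfsgLib.Cores.pCore_le_sylow P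
  -- all large abelian subgroups in `H` is impossible
  have hout : ¬ ∀ A ∈ maxAdm 0 (P : Subgroup G), A ≤ H := by
    intro hall
    apply hG
    have hJH : jGen 0 (P : Subgroup G) ≤ H := sSup_le hall
    have hJeq : jGen 0 (P : Subgroup G) = jGen 0 H := by
      obtain ⟨A₀, h0⟩ := maxAdm_nonempty 0 (P : Subgroup G)
      refine le_antisymm (sSup_le fun A hA => ?_) (sSup_le fun A hA => ?_)
      · exact le_jGen ⟨(le_jGen hA).trans hJH, hA.2.1, fun C hC hCa => hA.2.2 C (hC.trans hHP) hCa⟩
      · exact le_jGen (maxAdm_of_le hHP h0 ((le_jGen h0).trans hJH) hA)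
    refine (npc_top_iff (eq_top_iff.2 ?_)).1 hJ
    rw [hJeq]
    exact (Subgroup.normalizer_eq_top (H := H)).ge.trans (normalizer_le_normalizer_jGen 0 H)
  set π := QuotientGroup.mk' H
  have hπ : Function.Surjective π := QuotientGroup.mk'_surjective H
  set Pb := (P : Subgroup G).map π with hPb
  have hzb : IsPGroup p Pb := P.2.map π
  have hquot : HasNormalPComplement p (G ⧸ H) := by
    by_cases hPbne : Pb = ⊥
    · exact absurd (fun A hA => hA.1.trans fun x hx =>
        (QuotientGroup.eq_one_iff x).1 (Subgroup.mem_bot.1 (hPbne.le ⟨x, hx, rfl⟩))) hout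
    refine ih _ (hn ▸ CfsgLib.Solvable.card_quotient_lt _ hHne) (G ⧸ H) (P.mapSurjective hπ) rfl ?_
    show HasNormalPComplement p (Subgroup.normalizer (jGen 0 Pb : Set (G ⧸ H)))
    set X := jGen 0 Pb with hX
    have hXP : X ≤ Pb := jGen_le 0 Pb
    have hXne : X ≠ ⊥ := jGen_ne_bot (Or.inl rfl) hzb hPbne
    have hPX : Pb ≤ Subgroup.normalizer (X : Set (G ⧸ H)) :=
      Subgroup.le_normalizer.trans (normalizer_le_normalizer_jGen 0 Pb)
    set K := X.comap π with hKdef
    have hKp : IsPGroup p K :=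
      ((P.2.map π).to_le hXP).comap_of_ker_isPGroup π (by rw [QuotientGroup.ker_mk']; exact hHp)
    have hNK : Subgroup.normalizer (K : Set G) = (Subgroup.normalizer (X : Set (G ⧸ H))).comap π :=
      (Subgroup.comap_normalizer_eq_of_surjective _ hπ).symm
    have hHK : H < K := by
      refine lt_of_le_of_ne (fun x hx => ?_) fun e0 => hXne (le_bot_iff.1 fun y hy => ?_)
      · show π x ∈ X
        rw [show π x = 1 from (QuotientGroup.eq_one_iff x).2 hx]; exact one_mem _
      · obtain ⟨x, rfl⟩ := hπ y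
        exact Subgroup.mem_bot.2 ((QuotientGroup.eq_one_iff x).2 (e0.ge hy))
    refine npc_of_le_map π ?_ (hKbad K hKp hHK ?_)
    · rw [hNK, Subgroup.map_comap_eq_self_of_surjective hπ]
    · rw [hNK]
      exact fun x hx => hPX ⟨x, hx, rfl⟩
  obtain ⟨hc, hmaxP, K, hKn, hHK, hKcop, hKP, -⟩ :=
    CfsgLib.LocalEven.Thompson.final_base P hG hO hquot hprop
  set Kb := K.map π with hKb
  haveI : Kb.Normal := hKn.map π hπ
  have hcardKb : Nat.card Kb = H.relIndex K := by
    rw [← Subgroup.relIndex_bot_left, hKb, ← Subgroup.map_bot π, Subgroup.relIndex_map_map,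
      QuotientGroup.ker_mk', bot_sup_eq, sup_of_le_left hHK]
  have hKbP : Kb ⊔ Pb = ⊤ := by
    rw [hKb, hPb, ← Subgroup.map_sup, hKP, Subgroup.map_top_of_surjective π hπ]
  have hdisj : Kb ⊓ Pb = ⊥ := by
    refine CfsgLib.Solvable.disjoint_of_coprime (H := Kb) (K := Pb) ?_
    obtain ⟨e, he⟩ := IsPGroup.iff_card.1 hzb
    rw [he, hcardKb]
    exact hKcop.pow_right e
  -- a `P`-invariant subgroup of `K / H` is trivial or everything
  have hirr : ∀ Y : Subgroup (G ⧸ H), Y ≤ Kb → Pb ≤ Subgroup.normalizer (Y : Set (G ⧸ H)) →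
      Y = Kb ∨ Y = ⊥ := by
    intro Y hY hPY
    by_cases hM : (P : Subgroup G) ⊔ Y.comap π = ⊤
    · left
      have htop : Y ⊔ Pb = ⊤ := by
        have := congrArg (Subgroup.map π) hM
        rwa [Subgroup.map_sup, Subgroup.map_comap_eq_self_of_surjective hπ,
          Subgroup.map_top_of_surjective π hπ, sup_comm] at this
      refine le_antisymm hY fun x hx => ?_
      obtain ⟨y, hy, s, hs, rfl⟩ := CfsgLib.Solvable.exists_mul_of_mem_sup (K := Y) (A := Pb) hPY
        (htop ▸ Subgroup.mem_top x)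
      have hs1 : s ∈ Kb ⊓ Pb := ⟨by simpa using mul_mem (inv_mem (hY hy)) hx, hs⟩
      rw [hdisj, Subgroup.mem_bot] at hs1
      rwa [hs1, mul_one]
    · right
      have hMP := hmaxP _ le_sup_left hM
      refine le_bot_iff.1 (le_trans ?_ hdisj.le)
      refine le_inf hY fun y hy => ?_
      obtain ⟨x, rfl⟩ := hπ y
      exact ⟨x, hMP.le (Subgroup.mem_sup_right hy), rfl⟩
  have hpG : ¬ IsPGroup p G := fun h => hG (CfsgLib.Transfer.hasNormalPComplement_of_isPGroup h)
  have hKbne : Kb ≠ ⊥ := by
    intro h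
    refine hpG (P.2.of_equiv ((MulEquiv.subgroupCongr ?_).trans Subgroup.topEquiv))
    rw [← hKP, eq_comm, sup_eq_right]
    refine le_trans (fun x hx => ?_) hHP
    exact (QuotientGroup.eq_one_iff x).1 (Subgroup.mem_bot.1 (h.le ⟨x, hx, rfl⟩))
  haveI : Nontrivial Kb := (Subgroup.nontrivial_iff_ne_bot _).2 hKbne
  obtain ⟨q, hq, hqd⟩ := Nat.exists_prime_and_dvd (show Nat.card Kb ≠ 1 from Finite.one_lt_card.ne')
  haveI : Fact q.Prime := ⟨hq⟩
  have hcopPK : (Nat.card Pb).Coprime (Nat.card Kb) := by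
    obtain ⟨e, he⟩ := IsPGroup.iff_card.1 hzb
    rw [he, hcardKb]
    exact (hKcop.pow_right e).symm
  have hPs : Group.IsSolvable Pb := by
    have := hzb.isNilpotent
    infer_instance
  obtain ⟨Q, hQ⟩ := CfsgLib.Solvable.exists_invariant_sylow Pb Kb
    (by rw [Subgroup.normalizer_eq_top Kb]; exact le_top) hcopPK (Or.inl hPs) q
  have hKbq : IsPGroup q Kb := by
    rcases hirr ((Q : Subgroup Kb).map Kb.subtype) (Subgroup.map_subtype_le _) hQ with h | h
    · exact h ▸ Q.2.map Kb.subtype
    · exact absurd ((Subgroup.map_eq_bot_iff_of_injective _ Kb.subtype_injective).1 h)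
        (Q.ne_bot_of_dvd_card hqd)
  have hab : ∀ x ∈ K, ∀ y ∈ K, ⁅x, y⁆ ∈ H := by
    have hcomm : ⁅Kb, Kb⁆ = ⊥ := by
      refine (hirr _ (Subgroup.commutator_le_self Kb) ?_).resolve_left ?_
      · rw [Subgroup.normalizer_eq_top ⁅Kb, Kb⁆]; exact le_top
      · refine (CfsgLib.Solvable.commutator_self_lt ?_ hKbne).ne
        have := hKbq.isNilpotent
        infer_instance
    intro x hx y hy
    refine (QuotientGroup.eq_one_iff _).1 (Subgroup.mem_bot.1 (hcomm.le ?_))
    show π ⁅x, y⁆ ∈ _
    rw [map_commutatorElement]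
    exact Subgroup.commutator_mem_commutator ⟨x, hx, rfl⟩ ⟨y, hy, rfl⟩
  have hfaith : ∀ a ∈ (P : Subgroup G), (∀ k ∈ K, ⁅a, k⁆ ∈ H) → a ∈ H := by
    intro a ha hak
    set Y := Pb ⊓ Subgroup.centralizer (Kb : Set (G ⧸ H)) with hY
    have hYn : Y.Normal := by
      rw [← Subgroup.normalizer_eq_top_iff, eq_top_iff, ← hKbP]
      refine sup_le (fun k hk => CfsgLib.Solvable.mem_normalizer_of_conj_mem fun y hy => ?_) ?_
      · rw [Subgroup.mem_centralizer_iff.1 hy.2 k hk, mul_inv_cancel_right]
        exact hy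
      · exact CfsgLib.Solvable.le_normalizer_inf Subgroup.le_normalizer
          ((Subgroup.normalizer_eq_top (H := Subgroup.centralizer (Kb : Set (G ⧸ H)))).symm ▸ le_top)
    have hle : Y ≤ pCore p (G ⧸ H) := CfsgLib.Cores.le_pCore (hzb.to_le inf_le_left)
    rw [CfsgLib.Cores.pCore_quotient_self] at hle
    refine (QuotientGroup.eq_one_iff a).1 (Subgroup.mem_bot.1 (hle ⟨⟨a, ha, rfl⟩, ?_⟩))
    refine Subgroup.mem_centralizer_iff.2 ?_
    rintro _ ⟨k, hk, rfl⟩
    have h1 : π ⁅a, k⁆ = 1 := (QuotientGroup.eq_one_iff _).2 (hak k hk)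
    rw [map_commutatorElement, commutatorElement_eq_one_iff_mul_comm] at h1
    exact h1.symm
  exact hout fun A hA => maxAdm_le hp5 P.2 hHP inferInstance hKn hHK hc hKcop hab hfaith hA

/-- For `p ≥ 5` a normal `p`-complement in `N(J(S))` gives one in the group. -/
theorem hasNormalPComplement_of_normalizer (hp5 : 5 ≤ p) {G : Type u} [Group G] [Finite G]
    (P : Sylow p G)
    (hJ : HasNormalPComplement p (Subgroup.normalizer (jGen 0 (P : Subgroup G) : Set G))) :
    HasNormalPComplement p G :=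
  npc_statement hp5 _ G P rfl hJ

/-- If the elements of order prime to `p` in `N(J(S))` centralise `J(S)` then `N(J(S))` has a
normal `p`-complement. -/
theorem npc_normalizer_jGen {G : Type u} [Group G] [Finite G] (P : Sylow p G)
    (h : ∀ g ∈ Subgroup.normalizer (jGen 0 (P : Subgroup G) : Set G), (orderOf g).Coprime p →
      g ∈ Subgroup.centralizer (jGen 0 (P : Subgroup G) : Set G)) :
    HasNormalPComplement p (Subgroup.normalizer (jGen 0 (P : Subgroup G) : Set G)) := by
  set J := jGen 0 (P : Subgroup G)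
  set N := Subgroup.normalizer (J : Set G)
  set C := Subgroup.centralizer (J : Set G)
  have hCN : C ≤ N := fun c hc => CfsgLib.Solvable.mem_normalizer_of_conj_mem fun x hx => by
    rw [← Subgroup.mem_centralizer_iff.1 hc x hx, mul_inv_cancel_right]; exact hx
  have hPN : (P : Subgroup G) ≤ N := Subgroup.le_normalizer.trans (normalizer_le_normalizer_jGen 0 _)
  -- the elements of `S` centralising `J` are central in `C`
  have hcent : ∀ x ∈ (P : Subgroup G) ⊓ C, ∀ c ∈ C, x * c = c * x := by
    intro x hx c hc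
    obtain ⟨A, hA⟩ := maxAdm_nonempty 0 (P : Subgroup G)
    have hxA : ∀ a ∈ A, a * x = x * a := fun a ha =>
      Subgroup.mem_centralizer_iff.1 hx.2 a (le_jGen hA ha)
    have hmem : Subgroup.closure (insert x (A : Set G)) = A := by
      have hcm : ∀ u ∈ insert x (A : Set G), ∀ v ∈ insert x (A : Set G), u * v = v * u := by
        rintro u (rfl | hu) v (rfl | hv)
        · rfl
        · exact (hxA v hv).symm
        · exact hxA u hu
        · exact adm_comm hA.2.1 hu hv
      refine (Subgroup.eq_of_le_of_card_ge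
        (fun a ha => Subgroup.subset_closure (Set.mem_insert_of_mem _ ha)) ?_).symm
      exact hA.2.2 _ ((Subgroup.closure_le _).2 (Set.insert_subset hx.1 hA.1))
        ⟨Subgroup.isMulCommutative_closure hcm, fun a _ => pow_zero a⟩
    exact Subgroup.mem_centralizer_iff.1 hc x
      (le_jGen hA (hmem.le (Subgroup.subset_closure (Set.mem_insert _ _))))
  haveI hCn : (C.subgroupOf N).Normal :=
    Subgroup.normal_subgroupOf_of_le_normalizer
      (CfsgLib.Solvable.normalizer_le_normalizer_centralizer J)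
  set C' := C.subgroupOf N with hC'
  -- `C` has a normal `p`-complement
  have hC : HasNormalPComplement p C' := by
    obtain ⟨T, hT⟩ : ∃ T : Sylow p C', ((T : Subgroup C').map C'.subtype).map N.subtype ≤ (P : Subgroup G) := by
      set PN : Sylow p N := P.subtype hPN
      obtain ⟨T, hT⟩ := CfsgLib.LocalEven.exists_sylow_eq_inf_of_isSubnormal PN hCn.isSubnormal
      refine ⟨T, ?_⟩
      rw [hT]
      rintro _ ⟨_, ⟨y, hy, rfl⟩, rfl⟩
      exact hy
    refine CfsgLib.Transfer.hasNormalPComplement_of_normalizer_le_centralizer T ?_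
    intro g _
    refine Subgroup.mem_centralizer_iff.2 fun t ht => Subtype.ext (Subtype.ext ?_)
    exact hcent _ ⟨hT ⟨_, ⟨t, ht, rfl⟩, rfl⟩, t.2⟩ _ g.2
  refine CfsgLib.Transfer.hasNormalPComplement_iff_pResidual.2 ?_
  have hle : pResidual p N ≤ (pResidual p C').map C'.subtype := by
    rw [pResidual, Subgroup.closure_le]
    intro g hg
    have hgC : g ∈ C' := h g g.2 (by rwa [Subgroup.orderOf_coe])
    exact ⟨⟨g, hgC⟩, CfsgLib.Transfer.mem_pResidual_of_coprime
      (by rw [Subgroup.orderOf_mk]; exact hg), rfl⟩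
  refine Nat.Coprime.coprime_dvd_left (Subgroup.card_dvd_of_le hle) ?_
  rw [Subgroup.card_map_of_injective C'.subtype_injective]
  exact CfsgLib.Transfer.hasNormalPComplement_iff_pResidual.1 hC

end CfsgLib.LocalEven.JComplement
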