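import Cfsg.Agent.Lib.LocalEven.JComplement.Frame

/-!
The irreducible module `W = D / D₀`, its operators and the commutator form.
-/

set_option autoImplicit false

open scoped commutatorElement

namespace CfsgLib.LocalEven.JComplement.Setup

variable {G : Type*} [Group G] [Finite G] {p : ℕ} [hp : Fact p.Prime] (P : Setup p G)

/-- `D₀` inside `D`. -/
noncomputable abbrev N : Subgroup P.D := P.D₀.subgroupOf P.D

instance N_normal : P.N.Normal :=
  ⟨fun n hn g => P.conj_mem P.inv_D₀ (P.mem_L_K (P.hHK (P.inv_D.1 g.2))) hn⟩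

noncomputable instance : CommGroup (P.D ⧸ P.N) :=
  { (inferInstance : Group (P.D ⧸ P.N)) with
    mul_comm := fun x y => by
      induction x using QuotientGroup.induction_on with
      | _ x =>
      induction y using QuotientGroup.induction_on with
      | _ y =>
      rw [← QuotientGroup.mk_mul, ← QuotientGroup.mk_mul, QuotientGroup.eq, Subgroup.mem_subgroupOf]
      have := P.comm_pow_mem_D₀.1 _ (inv_mem y.2) _ (inv_mem x.2)
      simpa [commutatorElement_def, mul_assoc] using this }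

/-- The module. -/
abbrev W : Type _ := Additive (P.D ⧸ P.N)

/-- The projection. -/
noncomputable def proj (d : P.D) : P.W := Additive.ofMul (d : P.D ⧸ P.N)

theorem proj_surjective : Function.Surjective P.proj := by
  intro w
  obtain ⟨d, hd⟩ := QuotientGroup.mk_surjective (Additive.toMul w)
  exact ⟨d, congrArg Additive.ofMul hd⟩

theorem proj_mul (d e : P.D) : P.proj (d * e) = P.proj d + P.proj e := rfl

theorem proj_inv (d : P.D) : P.proj d⁻¹ = -P.proj d := rfl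

theorem proj_one : P.proj 1 = 0 := rfl

theorem proj_eq_zero {d : P.D} : P.proj d = 0 ↔ (d : G) ∈ P.D₀ := by
  rw [proj, ofMul_eq_zero, QuotientGroup.eq_one_iff, Subgroup.mem_subgroupOf]

theorem proj_eq_iff {d e : P.D} : P.proj d = P.proj e ↔ ((d : G))⁻¹ * e ∈ P.D₀ := by
  rw [proj, proj, Additive.ofMul.injective.eq_iff, QuotientGroup.eq, Subgroup.mem_subgroupOf]
  rfl

theorem smul_p (w : P.W) : p • w = 0 := by
  obtain ⟨d, rfl⟩ := P.proj_surjective w
  have h : p • P.proj d = P.proj (d ^ p) := by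
    show Additive.ofMul ((d : P.D ⧸ P.N) ^ p) = _
    rfl
  rw [h, proj_eq_zero]
  exact P.comm_pow_mem_D₀.2 d d.2

instance : Nontrivial P.W := by
  obtain ⟨d, hd, hd0⟩ : ∃ d ∈ P.D, d ∉ P.D₀ :=
    SetLike.exists_of_lt (lt_of_le_of_ne P.D₀_le P.D₀_ne)
  exact ⟨P.proj ⟨d, hd⟩, 0, fun h => hd0 (P.proj_eq_zero.1 h)⟩

instance : Finite P.W := Finite.of_surjective P.proj P.proj_surjective

instance : Finite (AddMonoid.End P.W) :=
  Finite.of_injective (fun f : AddMonoid.End P.W => (f : P.W → P.W)) DFunLike.coe_injective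

/-- The acting group. -/
abbrev L : Subgroup G := P.K ⊔ P.A

/-- Conjugation on `D`. -/
noncomputable def conjD : P.L →* MulAut P.D :=
  P.D.normalizerMonoidHom.comp (Subgroup.inclusion P.inv_D.2)

theorem conjD_apply (l : P.L) (d : P.D) : ((P.conjD l d : P.D) : G) = (l : G) * d * (l : G)⁻¹ := rfl

theorem conjD_N (l : P.L) : P.N ≤ P.N.comap (P.conjD l).toMonoidHom := fun _ hn =>
  P.conj_mem P.inv_D₀ l.2 hn

/-- The representation. -/
noncomputable def ρ : P.L →* AddMonoid.End P.W where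
  toFun l := MonoidHom.toAdditive (QuotientGroup.map P.N P.N (P.conjD l).toMonoidHom (P.conjD_N l))
  map_one' := AddMonoidHom.ext fun w => by
    obtain ⟨d, rfl⟩ := P.proj_surjective w
    show P.proj (P.conjD 1 d) = P.proj d
    rw [map_one]; rfl
  map_mul' l l' := AddMonoidHom.ext fun w => by
    obtain ⟨d, rfl⟩ := P.proj_surjective w
    show P.proj (P.conjD (l * l') d) = P.proj (P.conjD l (P.conjD l' d))
    rw [map_mul]; rfl

theorem ρ_proj (l : P.L) (d : P.D) : P.ρ l (P.proj d) = P.proj (P.conjD l d) := rfl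

theorem ρ_eq_one_iff (l : P.L) : P.ρ l = 1 ↔ ∀ d ∈ P.D, ⁅(l : G), d⁆ ∈ P.D₀ := by
  have key : ∀ d : P.D, P.ρ l (P.proj d) = P.proj d ↔ ⁅(l : G), (d : G)⁆ ∈ P.D₀ := by
    intro d
    rw [ρ_proj, eq_comm, proj_eq_iff, conjD_apply, commutatorElement_def]
    have e : (l : G) * d * (l : G)⁻¹ * (d : G)⁻¹ =
        d * ((d : G)⁻¹ * ((l : G) * d * (l : G)⁻¹)) * (d : G)⁻¹ := by group
    rw [e]
    exact (Subgroup.mem_normalizer_iff.1 (P.inv_D₀.2 (P.mem_L_K (P.hHK (P.inv_D.1 d.2)))) _)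
  constructor
  · intro h d hd
    exact (key ⟨d, hd⟩).1 (by rw [h]; rfl)
  · intro h
    refine AddMonoidHom.ext fun w => ?_
    obtain ⟨d, rfl⟩ := P.proj_surjective w
    exact (key d).2 (h d d.2)

theorem ρ_U {l : P.L} (hl : (l : G) ∈ P.H ⊔ P.A₁) : P.ρ l = 1 := by
  rw [ρ_eq_one_iff]
  intro d hd
  have := P.comm_U_mem_D₀ hd hl
  rw [← commutatorElement_inv]
  exact inv_mem this

/-- `W` is irreducible. -/
theorem eq_top_of_invariant (Y : AddSubgroup P.W) (hY : ∀ l : P.L, ∀ y ∈ Y, P.ρ l y ∈ Y)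
    (hne : Y ≠ ⊥) : Y = ⊤ := by
  let X : Subgroup G :=
    { carrier := {x | ∃ h : x ∈ P.D, P.proj ⟨x, h⟩ ∈ Y}
      one_mem' := ⟨one_mem _, Y.zero_mem⟩
      mul_mem' := by
        rintro x y ⟨hx, hx'⟩ ⟨hy, hy'⟩
        exact ⟨mul_mem hx hy, Y.add_mem hx' hy'⟩
      inv_mem' := by
        rintro x ⟨hx, hx'⟩
        exact ⟨inv_mem hx, Y.neg_mem hx'⟩ }
  have hX : P.Inv X := ⟨fun x hx => P.inv_D.1 hx.choose, fun l hl =>
    CfsgLib.Solvable.mem_normalizer_of_conj_mem fun x ⟨hx, hx'⟩ =>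
      ⟨P.conj_mem P.inv_D hl hx, hY ⟨l, hl⟩ _ hx'⟩⟩
  by_cases h : X = P.D
  · rw [eq_top_iff]
    intro w _
    obtain ⟨d, rfl⟩ := P.proj_surjective w
    obtain ⟨_, hd⟩ := h.ge d.2
    exact hd
  · exfalso
    apply hne
    rw [eq_bot_iff]
    intro w hw
    obtain ⟨d, rfl⟩ := P.proj_surjective w
    rw [AddSubgroup.mem_bot, proj_eq_zero]
    exact P.le_D₀ hX (fun x hx => hx.choose) h ⟨d.2, hw⟩

theorem exists_ρ_ne_one : ∃ g : P.L, (g : G) ∈ P.K ∧ P.ρ g ≠ 1 := by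
  by_contra hcon
  push Not at hcon
  refine P.not_fixed_D fun d hd => Subgroup.mem_centralizer_iff.2 fun q hq => ?_
  have h := (P.ρ_eq_one_iff _).1 (hcon ⟨q, P.mem_L_K hq.1⟩ hq.1) d hd
  exact commute_of_commute_commutator P.isPGroup_D hq.2 (P.D₀_le h)
    (Subgroup.mem_centralizer_iff.1 (P.fixed_D₀ h) q hq)

theorem exists_q (l : P.L) (hl : (l : G) ∈ P.K) :
    ∃ q : P.L, (q : G) ∈ P.Qs ∧ P.ρ q = P.ρ l := by
  obtain ⟨h, hh, q, hq, e⟩ := P.exists_decomp hl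
  refine ⟨⟨q, P.mem_L_K hq.1⟩, hq, ?_⟩
  have e' : l = ⟨h, P.mem_L_K (P.hHK hh)⟩ * ⟨q, P.mem_L_K hq.1⟩ := Subtype.ext e
  rw [e', map_mul, P.ρ_U (Subgroup.mem_sup_left hh : ((⟨h, _⟩ : P.L) : G) ∈ _), one_mul]

theorem ρ_comm {l l' : P.L} (hl : (l : G) ∈ P.K) (hl' : (l' : G) ∈ P.K) :
    P.ρ l * P.ρ l' = P.ρ l' * P.ρ l := by
  have hc : ((⁅l, l'⁆ : P.L) : G) ∈ P.H ⊔ P.A₁ := Subgroup.mem_sup_left (P.hab _ hl _ hl')
  have h1 := P.ρ_U hc
  have e : l * l' = ⁅l, l'⁆ * (l' * l) := by rw [commutatorElement_def]; group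
  rw [← map_mul, e, map_mul, h1, one_mul, map_mul]

/-- The commutator form. -/
noncomputable def β (u v : P.W) : G :=
  ⁅((P.proj_surjective u).choose : G), ((P.proj_surjective v).choose : G)⁆

theorem comm_eq {d e f : P.D} (h : P.proj d = P.proj e) : ⁅(d : G), (f : G)⁆ = ⁅(e : G), (f : G)⁆ ∧
    ⁅(f : G), (d : G)⁆ = ⁅(f : G), (e : G)⁆ := by
  have hz := P.proj_eq_iff.1 h
  set z := (d : G)⁻¹ * e with hzd
  have he : (e : G) = d * z := by rw [hzd]; group
  have h1 : z * f = f * z := P.D₀_central hz f.2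
  have h2 : ∀ x ∈ P.D, z * x = x * z := fun x hx => P.D₀_central hz hx
  have hzi : z⁻¹ * (f : G)⁻¹ = (f : G)⁻¹ * z⁻¹ := by rw [← mul_inv_rev, ← mul_inv_rev, h1]
  rw [he]
  constructor
  · simp only [commutatorElement_def]
    rw [mul_inv_rev, show (d : G) * z * f * (z⁻¹ * (d : G)⁻¹) * (f : G)⁻¹ =
      d * (z * f * z⁻¹) * (d : G)⁻¹ * (f : G)⁻¹ by group, h1, mul_inv_cancel_right]
  · simp only [commutatorElement_def]
    rw [mul_inv_rev, show (f : G) * (d * z) * (f : G)⁻¹ * (z⁻¹ * (d : G)⁻¹) =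
      f * d * (z * (f : G)⁻¹ * z⁻¹) * (d : G)⁻¹ by group, h2 _ (inv_mem f.2), mul_inv_cancel_right]

theorem β_proj (d e : P.D) : P.β (P.proj d) (P.proj e) = ⁅(d : G), (e : G)⁆ := by
  rw [β, (P.comm_eq (P.proj_surjective (P.proj d)).choose_spec).1,
    (P.comm_eq (P.proj_surjective (P.proj e)).choose_spec).2]

theorem β_mem (u v : P.W) : P.β u v ∈ P.D₀ :=
  P.comm_pow_mem_D₀.1 _ (SetLike.coe_mem _) _ (SetLike.coe_mem _)

theorem β_swap (u v : P.W) : P.β v u = (P.β u v)⁻¹ := (commutatorElement_inv _ _).symm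

theorem β_add_left (u u' v : P.W) : P.β (u + u') v = P.β u v * P.β u' v := by
  obtain ⟨d, rfl⟩ := P.proj_surjective u
  obtain ⟨d', rfl⟩ := P.proj_surjective u'
  obtain ⟨e, rfl⟩ := P.proj_surjective v
  rw [← proj_mul, β_proj, β_proj, β_proj]
  have hc := P.D₀_central (P.comm_pow_mem_D₀.1 _ d'.2 _ e.2) d.2
  calc ⁅((d * d' : P.D) : G), (e : G)⁆
      = d * ⁅(d' : G), (e : G)⁆ * (d : G)⁻¹ * ⁅(d : G), (e : G)⁆ := by
        simp only [Subgroup.coe_mul, commutatorElement_def]; group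
    _ = ⁅(d' : G), (e : G)⁆ * ⁅(d : G), (e : G)⁆ := by rw [← hc, mul_inv_cancel_right]
    _ = ⁅(d : G), (e : G)⁆ * ⁅(d' : G), (e : G)⁆ :=
        P.D₀_central (P.comm_pow_mem_D₀.1 _ d'.2 _ e.2)
          (P.D₀_le (P.comm_pow_mem_D₀.1 _ d.2 _ e.2))

theorem β_add_right (u v v' : P.W) : P.β u (v + v') = P.β u v * P.β u v' := by
  rw [β_swap, β_add_left, mul_inv_rev, ← β_swap, ← β_swap]
  exact P.D₀_central (P.β_mem u v') (P.D₀_le (P.β_mem u v))

theorem β_zero_left (v : P.W) : P.β 0 v = 1 := by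
  have := P.β_add_left 0 0 v
  rw [add_zero] at this
  exact right_eq_mul.1 this

theorem β_zero_right (v : P.W) : P.β v 0 = 1 := by rw [β_swap, β_zero_left, inv_one]

theorem β_neg_left (u v : P.W) : P.β (-u) v = (P.β u v)⁻¹ := by
  have := P.β_add_left u (-u) v
  rw [add_neg_cancel, β_zero_left] at this
  exact eq_inv_of_mul_eq_one_right this.symm

theorem β_neg_right (u v : P.W) : P.β u (-v) = (P.β u v)⁻¹ := by
  rw [β_swap, β_neg_left, inv_inv, β_swap P v u, inv_inv]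

theorem β_ρ {l : P.L} (hl : (l : G) ∈ P.K) (u v : P.W) : P.β (P.ρ l u) (P.ρ l v) = P.β u v := by
  obtain ⟨q, hq, e⟩ := P.exists_q l hl
  rw [← e]
  obtain ⟨d, rfl⟩ := P.proj_surjective u
  obtain ⟨f, rfl⟩ := P.proj_surjective v
  rw [ρ_proj, ρ_proj, β_proj, β_proj, conjD_apply, conjD_apply, ← conjugate_commutatorElement]
  have h := P.comm_pow_mem_D₀.1 _ d.2 _ f.2
  rw [Subgroup.mem_centralizer_iff.1 (P.fixed_D₀ h) _ hq, mul_inv_cancel_right]

end CfsgLib.LocalEven.JComplement.Setup
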