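import Cfsg.Agent.Lib.LocalEven.JComplement.Ring
import Cfsg.Agent.Lib.LocalEven.JComplement.Module

/-!
Self-adjoint operators on `W`: an isotropic cyclic submodule on which `a` has a long orbit.
-/

set_option autoImplicit false
set_option maxHeartbeats 1000000

open scoped commutatorElement

namespace CfsgLib.LocalEven.JComplement.Setup

variable {G : Type*} [Group G] [Finite G] {p : ℕ} [hp : Fact p.Prime] (P : Setup p G)

/-- `K` inside the acting group. -/
abbrev KL : Subgroup P.L := P.K.subgroupOf P.L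

/-- The generator inside the acting group. -/
abbrev aL : P.L := ⟨P.a, P.mem_L_A P.ha⟩

theorem KL_normal : P.KL.Normal := by
  refine ⟨fun n hn g => ?_⟩
  show (g : G) * n * (g : G)⁻¹ ∈ P.K
  exact (Subgroup.mem_normalizer_iff.1 (sup_le Subgroup.le_normalizer P.hAK g.2) _).1 hn

theorem end_sum_apply {ι : Type*} (s : Finset ι) (f : ι → AddMonoid.End P.W) (x : P.W) :
    (∑ i ∈ s, f i) x = ∑ i ∈ s, f i x :=
  map_sum ({ toFun := fun e => e x, map_zero' := rfl, map_add' := fun _ _ => rfl } :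
    AddMonoid.End P.W →+ P.W) f s

theorem end_zsmul_apply (z : ℤ) (f : AddMonoid.End P.W) (x : P.W) : (z • f) x = z • f x :=
  map_zsmul ({ toFun := fun e => e x, map_zero' := rfl, map_add' := fun _ _ => rfl } :
    AddMonoid.End P.W →+ P.W) z f

theorem end_mul_apply (f g : AddMonoid.End P.W) (x : P.W) : (f * g) x = f (g x) := rfl

instance : Nontrivial (AddMonoid.End P.W) := by
  obtain ⟨x, hx⟩ := exists_ne (0 : P.W)
  exact ⟨1, 0, fun h => hx (DFunLike.congr_fun h x)⟩

instance : CharP (AddMonoid.End P.W) p :=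
  (CharP.charP_iff_prime_eq_zero hp.out).2 (by
    refine AddMonoidHom.ext fun w => ?_
    show (p : AddMonoid.End P.W) w = 0
    rw [AddMonoid.End.natCast_apply, P.smul_p])

/-- The ring spanned by the image of `K`. -/
noncomputable abbrev R : Subring (AddMonoid.End P.W) :=
  Subring.closure (P.ρ '' (P.KL : Set P.L))

theorem ρ_mem_R {g : P.L} (hg : g ∈ P.KL) : P.ρ g ∈ P.R := Subring.subset_closure ⟨g, hg, rfl⟩

theorem R_comm : IsMulCommutative P.R :=
  Subring.isMulCommutative_closure (by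
    rintro _ ⟨g, hg, rfl⟩ _ ⟨g', hg', rfl⟩
    exact P.ρ_comm hg hg')

noncomputable instance : CommRing P.R :=
  { (inferInstance : Ring P.R) with mul_comm := P.R_comm.is_comm.comm }

instance : Finite P.R := Subtype.finite

instance : CharP P.R p := (RingHom.charP_iff P.R.subtype Subtype.val_injective p).2 inferInstance

/-- The exponent of the Frobenius fixing `R`. -/
noncomputable def frobExp : ℕ := (P.H.relIndex P.K).totient

theorem frobExp_pos : 1 ≤ P.frobExp := Nat.totient_pos.2 (Nat.pos_of_ne_zero Subgroup.index_ne_zero_of_finite)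

/-- The image of an element of `K` in `R`. -/
noncomputable def toR : P.KL →* P.R where
  toFun g := ⟨P.ρ g, P.ρ_mem_R g.2⟩
  map_one' := Subtype.ext (map_one P.ρ)
  map_mul' g g' := Subtype.ext (map_mul P.ρ (g : P.L) g')

theorem toR_pow_eq (g : P.KL) : P.toR g ^ p ^ P.frobExp = P.toR g := by
  haveI := P.hHn
  have h1 : ((g : P.L) : G) ^ P.H.relIndex P.K ∈ P.H :=
    Subgroup.pow_index_mem (H := P.H.subgroupOf P.K) (⟨((g : P.L) : G), g.2⟩ : P.K)
  have h2 : P.toR g ^ P.H.relIndex P.K = 1 := by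
    refine Subtype.ext ?_
    show (P.ρ (g : P.L)) ^ _ = 1
    rw [← map_pow, P.ρ_U (Subgroup.mem_sup_left h1)]
  have h3 : p ^ P.frobExp ≡ 1 [MOD orderOf (P.toR g)] :=
    (Nat.ModEq.pow_totient P.hcop.symm).of_dvd (orderOf_dvd_of_pow_eq_one h2)
  rw [← pow_mod_orderOf, h3, pow_mod_orderOf, pow_one]

theorem pow_eq_R (r : P.R) : r ^ p ^ P.frobExp = r := by
  suffices h : ∀ x : AddMonoid.End P.W, ∀ hx : x ∈ P.R, (⟨x, hx⟩ : P.R) ^ p ^ P.frobExp = ⟨x, hx⟩ from
    h r r.2
  intro x hx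
  induction hx using Subring.closure_induction with
  | mem x hx => obtain ⟨g, hg, rfl⟩ := hx; exact P.toR_pow_eq ⟨g, hg⟩
  | zero => exact zero_pow (pow_pos hp.out.pos _).ne'
  | one => exact one_pow _
  | add x y hx hy ihx ihy =>
    show ((⟨x, hx⟩ : P.R) + ⟨y, hy⟩) ^ _ = (⟨x, hx⟩ : P.R) + ⟨y, hy⟩
    rw [add_pow_char_pow, ihx, ihy]
  | neg x hx ih =>
    show (-(⟨x, hx⟩ : P.R)) ^ _ = -(⟨x, hx⟩ : P.R)
    rw [← iterateFrobenius_def, map_neg, iterateFrobenius_def, ih]
  | mul x y hx hy ihx ihy =>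
    show ((⟨x, hx⟩ : P.R) * ⟨y, hy⟩) ^ _ = (⟨x, hx⟩ : P.R) * ⟨y, hy⟩
    rw [mul_pow, ihx, ihy]

instance : IsReduced P.R :=
  isReduced_of_pow_eq (m := p ^ P.frobExp)
    (le_trans hp.out.two_le (Nat.le_self_pow (by have := P.frobExp_pos; omega) p)) P.pow_eq_R

/-- Self-adjoint for the commutator form. -/
def SelfAdj (x : AddMonoid.End P.W) : Prop := ∀ u v, P.β (x u) v = P.β u (x v)

/-- The symmetric elements. -/
noncomputable def symElts : Set P.R := Set.range fun g : P.KL => P.toR g + P.toR g⁻¹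

/-- The symmetric subring. -/
noncomputable abbrev R₀ : Subring P.R := Subring.closure P.symElts

instance : Finite P.R₀ := Subtype.finite

instance : IsReduced P.R₀ := isReduced_of_injective P.R₀.subtype Subtype.val_injective

theorem selfAdj {r : P.R} (hr : r ∈ P.R₀) : P.SelfAdj r := by
  induction hr using Subring.closure_induction with
  | mem x hx =>
    obtain ⟨g, rfl⟩ := hx
    have h : ∀ h : P.KL, ∀ u v, P.β (P.ρ (h : P.L) u) v = P.β u (P.ρ ((h⁻¹ : P.KL) : P.L) v) := fun h u v => by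
      conv_lhs => rw [show v = P.ρ (h : P.L) (P.ρ ((h⁻¹ : P.KL) : P.L) v) by
        rw [← P.end_mul_apply, ← map_mul, Subgroup.coe_inv, mul_inv_cancel, map_one]; rfl]
      rw [P.β_ρ h.2]
    intro u v
    show P.β (P.ρ (g : P.L) u + P.ρ ((g⁻¹ : P.KL) : P.L) u) v =
      P.β u (P.ρ (g : P.L) v + P.ρ ((g⁻¹ : P.KL) : P.L) v)
    rw [β_add_left, β_add_right, h g, h g⁻¹, inv_inv]
    exact P.D₀_central (P.β_mem _ _) (P.D₀_le (P.β_mem _ _))
  | zero => intro u v; show P.β 0 v = P.β u 0; rw [β_zero_left, β_zero_right]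
  | one => intro u v; rfl
  | add x y hx hy ihx ihy =>
    intro u v
    show P.β ((x : AddMonoid.End P.W) u + (y : AddMonoid.End P.W) u) v =
      P.β u ((x : AddMonoid.End P.W) v + (y : AddMonoid.End P.W) v)
    rw [β_add_left, β_add_right, ihx, ihy]
  | neg x hx ih =>
    intro u v
    show P.β (-((x : AddMonoid.End P.W) u)) v = P.β u (-((x : AddMonoid.End P.W) v))
    rw [β_neg_left, β_neg_right, ih]
  | mul x y hx hy ihx ihy =>
    intro u v
    calc P.β (((x * y : P.R) : AddMonoid.End P.W) u) v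
        = P.β u (((y * x : P.R) : AddMonoid.End P.W) v) := by
          show P.β ((x : AddMonoid.End P.W) ((y : AddMonoid.End P.W) u)) v = _
          rw [ihx, ihy]; rfl
      _ = _ := by rw [mul_comm y x]

/-- Any cyclic submodule over the symmetric ring is isotropic. -/
theorem isotropic (hp2 : p ≠ 2) (r s : P.R₀) (x : P.W) :
    P.β ((r : P.R).1 x) ((s : P.R).1 x) = 1 := by
  set z := P.β ((r : P.R).1 x) ((s : P.R).1 x) with hz
  have h1 : z = P.β x ((((r : P.R) * (s : P.R) : P.R) : AddMonoid.End P.W) x) := P.selfAdj r.2 _ _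
  have h2 : z⁻¹ = P.β x ((((s : P.R) * (r : P.R) : P.R) : AddMonoid.End P.W) x) := by
    rw [hz, ← P.β_swap]; exact P.selfAdj s.2 _ _
  rw [mul_comm (s : P.R) (r : P.R), ← h1] at h2
  obtain ⟨N, hN⟩ := P.isPGroup_D ⟨z, P.D₀_le (P.β_mem _ _)⟩
  have h3 : z ^ p ^ N = 1 := congrArg Subtype.val hN
  have h4 : z ^ 2 = 1 := by rw [pow_two]; exact inv_eq_iff_mul_eq_one.1 h2
  have := pow_gcd_eq_one.2 ⟨h4, h3⟩
  rwa [((Nat.coprime_primes Nat.prime_two hp.out).2 (Ne.symm hp2)).pow_right N |>.gcd_eq_one,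
    pow_one] at this

/-- Conjugation by the generator. -/
noncomputable def conjE : AddMonoid.End P.W →+* AddMonoid.End P.W where
  toFun x := P.ρ P.aL * x * P.ρ P.aL⁻¹
  map_one' := by
    show P.ρ P.aL * 1 * P.ρ P.aL⁻¹ = 1
    rw [mul_one, ← map_mul, mul_inv_cancel, map_one]
  map_mul' x y := by
    calc P.ρ P.aL * (x * y) * P.ρ P.aL⁻¹
        = P.ρ P.aL * x * (P.ρ (P.aL⁻¹ * P.aL)) * y * P.ρ P.aL⁻¹ := by
          rw [inv_mul_cancel, map_one]; noncomm_ring
      _ = _ := by rw [map_mul]; noncomm_ring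
  map_zero' := by
    show P.ρ P.aL * 0 * P.ρ P.aL⁻¹ = 0
    rw [mul_zero, zero_mul]
  map_add' x y := by
    show P.ρ P.aL * (x + y) * P.ρ P.aL⁻¹ = P.ρ P.aL * x * P.ρ P.aL⁻¹ + P.ρ P.aL * y * P.ρ P.aL⁻¹
    noncomm_ring

theorem conjE_ρ (g : P.L) : P.conjE (P.ρ g) = P.ρ (P.aL * g * P.aL⁻¹) := by
  show P.ρ P.aL * P.ρ g * P.ρ P.aL⁻¹ = _
  rw [map_mul, map_mul]

theorem conjE_iterate (j : ℕ) (x : AddMonoid.End P.W) :
    P.conjE^[j] x = P.ρ (P.aL ^ j) * x * P.ρ (P.aL ^ j)⁻¹ := by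
  induction j with
  | zero => simp
  | succ j ih =>
    rw [Function.iterate_succ_apply', ih]
    show P.ρ P.aL * _ * P.ρ P.aL⁻¹ = _
    rw [pow_succ', map_mul, mul_inv_rev, map_mul]; noncomm_ring

theorem conjE_mem {x : AddMonoid.End P.W} (hx : x ∈ P.R) : P.conjE x ∈ P.R := by
  have h : P.R ≤ P.R.comap P.conjE := Subring.closure_le.2 (by
    rintro _ ⟨g, hg, rfl⟩
    show P.conjE _ ∈ P.R
    rw [conjE_ρ]
    exact P.ρ_mem_R (P.KL_normal.conj_mem g hg _))
  exact h hx

/-- The automorphism of `R`. -/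
noncomputable def τ : P.R →+* P.R := (P.conjE.comp P.R.subtype).codRestrict P.R fun r => P.conjE_mem r.2

theorem τ_toR (g : P.KL) : P.τ (P.toR g) = P.toR ⟨P.aL * g * P.aL⁻¹, P.KL_normal.conj_mem _ g.2 _⟩ :=
  Subtype.ext (P.conjE_ρ g)

theorem τ_mem {r : P.R} (hr : r ∈ P.R₀) : P.τ r ∈ P.R₀ := by
  have hgen : ∀ x ∈ P.symElts, P.τ x ∈ P.symElts := by
    intro x hx
    obtain ⟨g, rfl⟩ := hx
    refine ⟨⟨P.aL * g * P.aL⁻¹, P.KL_normal.conj_mem _ g.2 _⟩, ?_⟩
    have e : (⟨P.aL * g * P.aL⁻¹, P.KL_normal.conj_mem _ g.2 _⟩ : P.KL)⁻¹ =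
        ⟨P.aL * (g⁻¹ : P.KL) * P.aL⁻¹, P.KL_normal.conj_mem _ (g⁻¹ : P.KL).2 _⟩ :=
      Subtype.ext (by simp [mul_assoc])
    simp only [map_add, τ_toR, e]
  induction hr using Subring.closure_induction with
  | mem x hx => exact Subring.subset_closure (hgen x hx)
  | zero => rw [map_zero P.τ]; exact zero_mem P.R₀
  | one => rw [map_one P.τ]; exact one_mem P.R₀
  | add x y _ _ ihx ihy => rw [map_add P.τ]; exact add_mem ihx ihy
  | neg x _ ih => rw [map_neg P.τ]; exact neg_mem ih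
  | mul x y _ _ ihx ihy => rw [map_mul P.τ]; exact mul_mem ihx ihy

/-- The automorphism of `R₀`. -/
noncomputable def τ₀ : P.R₀ →+* P.R₀ := (P.τ.comp P.R₀.subtype).codRestrict P.R₀ fun r => P.τ_mem r.2

theorem coe_τ_iterate (j : ℕ) (r : P.R) : ((P.τ^[j] r : P.R) : AddMonoid.End P.W) =
    P.ρ (P.aL ^ j) * (r : AddMonoid.End P.W) * P.ρ (P.aL ^ j)⁻¹ := by
  rw [← conjE_iterate]
  induction j with
  | zero => rfl
  | succ j ih => rw [Function.iterate_succ_apply', Function.iterate_succ_apply', ← ih]; rfl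

theorem coe_τ₀_iterate (j : ℕ) (r : P.R₀) : ((P.τ₀^[j] r : P.R₀) : P.R) = P.τ^[j] r := by
  induction j with
  | zero => rfl
  | succ j ih => rw [Function.iterate_succ_apply', Function.iterate_succ_apply', ← ih]; rfl

theorem ρ_aL_pow : P.ρ (P.aL ^ p ^ P.k) = 1 :=
  P.ρ_U (Subgroup.mem_sup_right (show ((P.aL ^ p ^ P.k : P.L) : G) ∈ P.A₁ from P.hak))

theorem τ_iterate_pk (r : P.R) : P.τ^[p ^ P.k] r = r := by
  refine Subtype.ext ?_
  rw [coe_τ_iterate]
  have h := P.ρ_aL_pow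
  have h' : P.ρ (P.aL ^ p ^ P.k)⁻¹ = 1 := by
    have := map_mul P.ρ (P.aL ^ p ^ P.k) (P.aL ^ p ^ P.k)⁻¹
    rw [mul_inv_cancel, map_one, h, one_mul] at this
    exact this.symm
  rw [h, h', one_mul, mul_one]

theorem τ_iterate_pred_ne : ¬ ∀ g : P.KL, P.τ^[p ^ (P.k - 1)] (P.toR g) = P.toR g := by
  intro h
  haveI := P.hHn
  set bL : P.L := P.aL ^ p ^ (P.k - 1) with hb
  have hbc : (bL : G) = P.a ^ p ^ (P.k - 1) := rfl
  -- commutators with `b` act trivially
  have h1 : ∀ g : P.L, (g : G) ∈ P.K → P.ρ ⁅bL, g⁆ = 1 := by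
    intro g hg
    have e := congrArg Subtype.val (h ⟨g, hg⟩)
    rw [coe_τ_iterate] at e
    change P.ρ bL * P.ρ g * P.ρ bL⁻¹ = P.ρ g at e
    rw [commutatorElement_def, map_mul, map_mul, map_mul, e, ← map_mul, mul_inv_cancel, map_one]
  have hbA : P.a ^ p ^ (P.k - 1) ∈ P.A := pow_mem P.ha _
  set T : Set G := {z | ∃ g ∈ P.K, ⁅P.a ^ p ^ (P.k - 1), g⁆ = z} with hT
  set X : Subgroup G := P.H ⊔ Subgroup.closure T with hX
  have hTK : Subgroup.closure T ≤ P.K := (Subgroup.closure_le _).2 (by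
    rintro z ⟨g, hg, rfl⟩
    rw [commutatorElement_def]
    exact mul_mem ((Subgroup.mem_normalizer_iff.1 (P.hAK hbA) g).1 hg) (inv_mem hg))
  have hXK : X ≤ P.K := sup_le P.hHK hTK
  have hAX : P.A ≤ Subgroup.normalizer (X : Set G) := by
    intro t ht
    refine CfsgLib.Solvable.mem_normalizer_of_conj_mem ?_
    show X ≤ X.comap (MulAut.conj t).toMonoidHom
    refine sup_le (fun x hx => Subgroup.mem_sup_left (P.hHn.conj_mem x hx t)) ((Subgroup.closure_le _).2 ?_)
    rintro z ⟨g, hg, rfl⟩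
    refine Subgroup.mem_sup_right (Subgroup.subset_closure ⟨t * g * t⁻¹,
      (Subgroup.mem_normalizer_iff.1 (P.hAK ht) g).1 hg, ?_⟩)
    show _ = t * ⁅P.a ^ p ^ (P.k - 1), g⁆ * t⁻¹
    rw [conjugate_commutatorElement, P.hAc t ht _ hbA, mul_inv_cancel_right]
  -- `ρ` is trivial on `X`
  have hXρ : ∀ g : P.L, (g : G) ∈ X → P.ρ g = 1 := by
    have hker : X.subgroupOf P.L ≤ P.ρ.ker := by
      have hTL : T ⊆ (P.L : Set G) := fun z hz => P.mem_L_K (hTK (Subgroup.subset_closure hz))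
      have hmap : (P.ρ.ker).map P.L.subtype ≥ X := by
        refine sup_le (fun x hx => ⟨⟨x, P.mem_L_K (P.hHK hx)⟩, P.ρ_U (Subgroup.mem_sup_left hx), rfl⟩)
          ((Subgroup.closure_le _).2 ?_)
        rintro z ⟨g, hg, rfl⟩
        exact ⟨⁅bL, ⟨g, P.mem_L_K hg⟩⁆, h1 _ hg, rfl⟩
      intro g hg
      obtain ⟨g', hg', e⟩ := hmap hg
      exact Subtype.ext e ▸ hg'
    exact fun g hg => hker hg
  have hne : X ≠ P.K := by
    intro e
    obtain ⟨g, hg, hg1⟩ := P.exists_ρ_ne_one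
    exact hg1 (hXρ g (e.symm ▸ hg))
  -- so `b` centralises `X / H`, hence `K / H`
  have hXb : ∀ x ∈ X, ⁅P.a ^ p ^ (P.k - 1), x⁆ ∈ P.H := by
    intro x hx
    by_contra hcon
    exact hne (P.hmin X le_sup_left hXK hAX ⟨x, hx, hcon⟩)
  obtain ⟨g, hg, hgb⟩ := P.hex
  refine hgb ?_
  set b := P.a ^ p ^ (P.k - 1)
  set π := QuotientGroup.mk' P.H
  set c := ⁅b, g⁆ with hc
  have hcX : c ∈ X := Subgroup.mem_sup_right (Subgroup.subset_closure ⟨g, hg, rfl⟩)
  have hbc : π b * π c = π c * π b := by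
    rw [← commutatorElement_eq_one_iff_mul_comm, ← map_commutatorElement]
    exact (QuotientGroup.eq_one_iff _).2 (hXb c hcX)
  have hit : ∀ j : ℕ, π b ^ j * π g * (π b ^ j)⁻¹ = π c ^ j * π g := by
    intro j
    induction j with
    | zero => simp
    | succ j ih =>
      calc π b ^ (j + 1) * π g * (π b ^ (j + 1))⁻¹ = π b * (π b ^ j * π g * (π b ^ j)⁻¹) * (π b)⁻¹ := by
            rw [pow_succ']; group
        _ = π b * π c ^ j * π g * (π b)⁻¹ := by rw [ih]; group
        _ = π c ^ j * π b * π g * (π b)⁻¹ := by rw [((show Commute (π b) (π c) from hbc).pow_right j).eq]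
        _ = π c ^ (j + 1) * π g := by rw [pow_succ, hc, map_commutatorElement, commutatorElement_def]; group
  have hp1 : p ^ (P.k - 1) * p = p ^ P.k := by
    rw [← pow_succ, Nat.sub_add_cancel P.hk]
  have h2 := hit p
  have h3 : π b ^ p = π (P.a ^ p ^ P.k) := by rw [← map_pow]; congr 1; rw [← pow_mul, hp1]
  have h4 : π (P.a ^ p ^ P.k) * π g = π g * π (P.a ^ p ^ P.k) := by
    rw [← commutatorElement_eq_one_iff_mul_comm, ← map_commutatorElement]
    exact (QuotientGroup.eq_one_iff _).2 (P.hA₁K _ P.hak g hg)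
  rw [h3, h4, mul_inv_cancel_right, right_eq_mul] at h2
  have h5 : π c ^ P.H.relIndex P.K = 1 := by
    rw [← map_pow]
    exact (QuotientGroup.eq_one_iff _).2
      (Subgroup.pow_index_mem (H := P.H.subgroupOf P.K) (⟨c, hXK hcX⟩ : P.K))
  have := pow_gcd_eq_one.2 ⟨h5, h2⟩
  rw [P.hcop.gcd_eq_one, pow_one] at this
  exact (QuotientGroup.eq_one_iff _).1 this

/-- `a - 1`. -/
noncomputable def δ : AddMonoid.End P.W := P.ρ P.aL - 1

/-- A vector with a long orbit inside an isotropic submodule. -/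
theorem exists_vector (hp5 : 5 ≤ p) : ∃ (x : P.W) (r : P.R₀),
    P.ρ P.aL x = x ∧ (P.δ ^ (P.k + 2)) ((r : P.R).1 x) ≠ 0 := by
  by_contra hcon
  push Not at hcon
  set n := P.k + 2 with hn
  let c : ℕ → ℤ := fun i => (n.choose i : ℤ) * (-1) ^ (n - i)
  have hc : c n = 1 := by simp [c]
  have hk := P.hk
  have hlt : n < p ^ P.k := by
    have h1 : ∀ j, 1 ≤ j → j + 2 < 5 ^ j := by
      intro j hj
      induction j, hj using Nat.le_induction with
      | base => norm_num
      | succ j hj ih => rw [pow_succ]; omega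
    exact (h1 P.k hk).trans_le (Nat.pow_le_pow_left hp5 _)
  -- the fixed vectors generate
  let S : AddSubgroup P.W := AddSubgroup.closure
    {y | ∃ g : P.KL, ∃ x, P.ρ P.aL x = x ∧ P.ρ (g : P.L) x = y}
  have hfix_ne : ∃ x : P.W, x ≠ 0 ∧ P.ρ P.aL x = x := by
    let Z := Subgroup.zpowers P.aL
    letI : MulAction Z P.W :=
      { smul := fun z w => P.ρ z w
        one_smul := fun w => by show P.ρ ((1 : Z) : P.L) w = w; rw [Subgroup.coe_one, map_one]; rfl
        mul_smul := fun z z' w => by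
          show P.ρ ((z * z' : Z) : P.L) w = _
          rw [Subgroup.coe_mul, map_mul]; rfl }
    have hZp : IsPGroup p Z := fun z => by
      obtain ⟨j, hj⟩ := (P.hAp.to_le (Subgroup.zpowers_le.2 P.ha)) ⟨((z : P.L) : G), by
        obtain ⟨i, hi⟩ := z.2
        exact ⟨i, by rw [← hi]; rfl⟩⟩
      have hj' : ((z : P.L) : G) ^ p ^ j = 1 := by simpa using congrArg Subtype.val hj
      exact ⟨j, Subtype.ext (Subtype.ext hj')⟩
    have hWp : IsPGroup p (Multiplicative P.W) := fun w =>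
      ⟨1, by rw [pow_one]; exact Multiplicative.toAdd.injective (P.smul_p w.toAdd)⟩
    have hdvd : p ∣ Nat.card P.W := by
      obtain ⟨j, hj⟩ := IsPGroup.iff_card.1 hWp
      have h1 : 1 < Nat.card P.W := Finite.one_lt_card
      change Nat.card P.W = _ at hj
      rw [hj] at h1 ⊢
      exact dvd_pow_self p (by rintro rfl; simp at h1)
    obtain ⟨w, hw, hw0⟩ := hZp.exists_fixed_point_of_prime_dvd_card_of_fixed_point P.W hdvd
      (a := 0) (fun z => map_zero (P.ρ z))
    exact ⟨w, Ne.symm hw0, hw ⟨P.aL, Subgroup.mem_zpowers _⟩⟩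
  have hS : S = ⊤ := by
    have hgen : ∀ t : P.L, ((t : G) ∈ P.K ∨ (t : G) ∈ P.A) → ∀ y ∈ S, P.ρ t y ∈ S := by
      intro t ht y hy
      suffices S ≤ S.comap (P.ρ t) from this hy
      refine (AddSubgroup.closure_le _).2 ?_
      rintro _ ⟨g, x, hx, rfl⟩
      show P.ρ t (P.ρ (g : P.L) x) ∈ S
      rcases ht with ht | ht
      · refine AddSubgroup.subset_closure ⟨⟨t * g, mul_mem (show t ∈ P.KL from ht) g.2⟩, x, hx, ?_⟩
        rw [map_mul]; rfl
      · refine AddSubgroup.subset_closure ⟨⟨t * g * t⁻¹, P.KL_normal.conj_mem _ g.2 _⟩, P.ρ t x, ?_, ?_⟩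
        · rw [← P.end_mul_apply, ← map_mul,
            show P.aL * t = t * P.aL from Subtype.ext (P.hAc _ P.ha _ ht), map_mul,
            P.end_mul_apply, hx]
        · rw [← P.end_mul_apply, ← map_mul, inv_mul_cancel_right, map_mul]; rfl
    refine P.eq_top_of_invariant S (fun l y hy => ?_) ?_
    · haveI := P.KL_normal
      obtain ⟨g, hg, t, ht, e⟩ := CfsgLib.Solvable.exists_mul_of_mem_sup (K := P.K) (A := P.A) P.hAK l.2
      have : l = ⟨g, P.mem_L_K hg⟩ * ⟨t, P.mem_L_A ht⟩ := Subtype.ext e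
      rw [this, map_mul]
      exact hgen _ (Or.inl hg) _ (hgen _ (Or.inr ht) y hy)
    · obtain ⟨x, hx0, hx⟩ := hfix_ne
      intro h0
      have hxS : x ∈ S := AddSubgroup.subset_closure ⟨1, x, hx, by rw [Subgroup.coe_one, map_one]; rfl⟩
      rw [h0, AddSubgroup.mem_bot] at hxS
      exact hx0 hxS
  have hrel : ∀ r : P.R₀, ∑ i ∈ Finset.range (n + 1), c i • P.τ₀^[i] r = 0 := by
    intro r
    refine Subtype.ext (Subtype.ext ?_)
    set E : AddMonoid.End P.W :=
      (((∑ i ∈ Finset.range (n + 1), c i • P.τ₀^[i] r : P.R₀) : P.R) : AddMonoid.End P.W) with hE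
    show E = 0
    -- on fixed vectors
    have hfix : ∀ x, P.ρ P.aL x = x → E x = 0 := by
      intro x hx
      rw [← hcon x r hx]
      have hpow : ∀ j, P.ρ (P.aL ^ j)⁻¹ x = x := by
        intro j
        have h1 : P.ρ P.aL⁻¹ x = x := by
          conv_lhs => rw [← hx]
          rw [← P.end_mul_apply, ← map_mul, inv_mul_cancel, map_one]; rfl
        induction j with
        | zero => rw [pow_zero, inv_one, map_one]; rfl
        | succ j ih => rw [pow_succ', mul_inv_rev, map_mul, P.end_mul_apply, h1, ih]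
      have hδ : P.δ ^ n = ∑ i ∈ Finset.range (n + 1), c i • P.ρ (P.aL ^ i) := by
        rw [δ, sub_eq_add_neg, (Commute.one_right (P.ρ P.aL)).neg_right.add_pow]
        refine Finset.sum_congr rfl fun i _ => ?_
        rw [← map_pow, zsmul_eq_mul, (Int.cast_commute (c i) _).eq, mul_assoc]
        simp only [c, Int.cast_mul, Int.cast_natCast, Int.cast_pow, Int.cast_neg, Int.cast_one]
        rw [(Nat.cast_commute (n.choose i) ((-1 : AddMonoid.End P.W) ^ (n - i))).eq]
      rw [hδ, hE]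
      simp only [AddSubmonoidClass.coe_finset_sum, AddSubgroupClass.coe_zsmul, coe_τ₀_iterate,
        coe_τ_iterate]
      rw [P.end_sum_apply, P.end_sum_apply]
      refine Finset.sum_congr rfl fun i _ => ?_
      rw [P.end_zsmul_apply, P.end_zsmul_apply, P.end_mul_apply,
        P.end_mul_apply, hpow i]
    refine AddMonoidHom.ext fun w => ?_
    have hw : w ∈ S := hS ▸ AddSubgroup.mem_top w
    induction hw using AddSubgroup.closure_induction with
    | mem y hy =>
      obtain ⟨g, x, hx, rfl⟩ := hy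
      set e : P.R := ((∑ i ∈ Finset.range (n + 1), c i • P.τ₀^[i] r : P.R₀) : P.R)
      show ((e * P.toR g : P.R) : AddMonoid.End P.W) x = 0
      rw [mul_comm]
      show P.ρ (g : P.L) (E x) = 0
      rw [hfix x hx, map_zero]
    | zero => exact map_zero E
    | add y z _ _ ihy ihz =>
      show E (y + z) = 0
      have ey : E y = 0 := ihy
      have ez : E z = 0 := ihz
      rw [map_add, ey, ez, add_zero]
    | neg y _ ih =>
      show E (-y) = 0
      have ey : E y = 0 := ih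
      rw [map_neg, ey, neg_zero]
  have hper := iterate_eq_of_relation hp.out hlt P.τ₀
    (fun r => Subtype.ext (by rw [coe_τ₀_iterate, P.τ_iterate_pk])) c hc hrel
  refine P.τ_iterate_pred_ne ?_
  set m := p ^ (P.k - 1) with hm
  refine fun g => ?_
  have hp1 : m * p = p ^ P.k := by rw [hm, ← pow_succ, Nat.sub_add_cancel P.hk]
  have hcl : ∀ j, ∀ y : P.KL, ∃ y' : P.KL, P.toR y' = P.τ^[j] (P.toR y) := by
    intro j y
    induction j with
    | zero => exact ⟨y, rfl⟩
    | succ j ih =>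
      obtain ⟨y', hy'⟩ := ih
      rw [Function.iterate_succ_apply', ← hy', τ_toR]
      exact ⟨_, rfl⟩
  have := eq_of_sum_inv (p := p) (hp.out.odd_of_ne_two (by omega)) (P.τ ^ m : P.R →+* P.R)
    (fun r => by rw [RingHom.coe_pow, ← Function.iterate_mul, hp1, P.τ_iterate_pk])
    P.toR (fun y => ?_) (fun y => by rw [RingHom.coe_pow]; exact hcl m y) g
  · rwa [RingHom.coe_pow] at this
  · rw [← map_add, RingHom.coe_pow]
    have h1 := congrArg Subtype.val (hper ⟨P.toR y + P.toR y⁻¹, Subring.subset_closure ⟨y, rfl⟩⟩)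
    rwa [coe_τ₀_iterate] at h1

end CfsgLib.LocalEven.JComplement.Setup
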