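import Mathlib

/-!
Ring lemmas for the normal `p`-complement criterion with `J(S)`: automorphisms of `p`-power order
of finite reduced commutative rings of characteristic `p`.
-/

set_option autoImplicit false

namespace CfsgLib.LocalEven.JComplement

variable {R : Type*} [CommRing R] [Finite R]

omit [Finite R] in
theorem isReduced_of_pow_eq {m : ℕ} (hm : 2 ≤ m) (h : ∀ r : R, r ^ m = r) : IsReduced R := by
  refine ⟨fun r ⟨n, hn⟩ => ?_⟩
  have key : ∀ j, r ^ (m ^ j) = r := by
    intro j
    induction j with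
    | zero => simp
    | succ j ih => rw [pow_succ, pow_mul, ih, h]
  rw [← key n]
  exact pow_eq_zero_of_le (Nat.lt_pow_self (by omega : 1 < m)).le hn

theorem eq_of_forall_mk_maximal [IsReduced R] {x y : R}
    (h : ∀ m : Ideal R, m.IsMaximal → Ideal.Quotient.mk m x = Ideal.Quotient.mk m y) : x = y := by
  rw [← sub_eq_zero]
  have hmem : x - y ∈ nilradical R := by
    rw [nilradical_eq_sInf, Submodule.mem_sInf]
    intro P hP
    haveI : Ideal.IsPrime P := hP
    haveI : Finite (R ⧸ (P : Ideal R)) := Finite.of_surjective _ Ideal.Quotient.mk_surjective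
    have hPm : Ideal.IsMaximal P := Ideal.Quotient.maximal_of_isField _ (Finite.isField_of_domain (R ⧸ (P : Ideal R)))
    exact Ideal.Quotient.eq.1 (h P hPm)
  rwa [nilradical_eq_zero, Ideal.zero_eq_bot, Ideal.mem_bot] at hmem

/-- A monic integral relation of degree `n < p ^ k` forces a smaller period. -/
theorem iterate_eq_of_relation [IsReduced R] {p k n : ℕ} (hp : p.Prime) (hn : n < p ^ k)
    (τ : R →+* R) (hτ : ∀ r, τ^[p ^ k] r = r) (c : ℕ → ℤ) (hc : c n = 1)
    (h : ∀ r, ∑ i ∈ Finset.range (n + 1), c i • τ^[i] r = 0) :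
    ∀ r, τ^[p ^ (k - 1)] r = r := by
  intro r
  refine eq_of_forall_mk_maximal fun m hm => ?_
  have := hm.isPrime
  let f : ℕ → (R →* R ⧸ m) := fun i => ((Ideal.Quotient.mk m).comp (τ ^ i)).toMonoidHom
  have hf : ∀ i x, f i x = Ideal.Quotient.mk m (τ^[i] x) := fun i x => by
    show Ideal.Quotient.mk m ((τ ^ i) x) = _
    rw [RingHom.coe_pow]
  have hnot : ¬ Function.Injective (fun i : Fin (n + 1) => f i) := by
    intro hinj
    have hli := (linearIndependent_monoidHom R (R ⧸ m)).comp _ hinj
    have := Fintype.linearIndependent_iff.1 hli (fun i => ((c i : ℤ) : R ⧸ m)) ?_ ⟨n, n.lt_succ_self⟩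
    · simp [hc] at this
    · funext x
      simp only [Finset.sum_apply, Pi.smul_apply, Function.comp_apply, smul_eq_mul, Pi.zero_apply]
      have h1 := congrArg (Ideal.Quotient.mk m) (h x)
      rw [map_zero, map_sum] at h1
      rw [← h1, Finset.sum_range]
      refine Finset.sum_congr rfl fun i _ => ?_
      rw [map_zsmul, zsmul_eq_mul]
      show _ * f i x = _
      rw [hf]
  obtain ⟨d, hd0, hdn, hd⟩ : ∃ d, 0 < d ∧ d ≤ n ∧ ∀ x, f d x = f 0 x := by
    have key : ∀ i j : ℕ, i < j → j ≤ n → f i = f j → ∀ x, f (j - i) x = f 0 x := by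
      intro i j hij hj he x
      have h1 := DFunLike.congr_fun he (τ^[p ^ k - i] x)
      simp only [hf, ← Function.iterate_add_apply] at h1
      rw [show i + (p ^ k - i) = p ^ k by omega,
        show j + (p ^ k - i) = (j - i) + p ^ k by omega, Function.iterate_add_apply (⇑τ) (j - i),
        hτ] at h1
      rw [hf, hf, ← h1]; simp
    obtain ⟨i, j, he, hne⟩ := Function.not_injective_iff.1 hnot
    rcases lt_or_gt_of_ne (fun e => hne (Fin.ext e) : (i : ℕ) ≠ j) with hlt | hlt
    · exact ⟨j - i, by omega, by omega, key i j hlt (by omega) he⟩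
    · exact ⟨i - j, by omega, by omega, key j i hlt (by omega) he.symm⟩
  have hper : ∀ a, (∀ x, f a x = f 0 x) → ∀ b x, f (b + a * 1) x = f b x := by
    intro a ha b x
    have := ha (τ^[b] x)
    simp only [hf, ← Function.iterate_add_apply] at this ⊢
    rw [mul_one, add_comm b a, this]; simp
  -- the set of periods is closed under subtraction
  have hmul : ∀ a, (∀ x, f a x = f 0 x) → ∀ q x, f (q * a) x = f 0 x := by
    intro a ha q x
    induction q with
    | zero => rw [zero_mul]
    | succ q ih => rw [Nat.succ_mul, ← mul_one a, ← mul_assoc, mul_one (q*a)]; rw [hper a ha, ih]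
  have hgcd : ∀ a b, (∀ x, f a x = f 0 x) → (∀ x, f b x = f 0 x) → ∀ x, f (Nat.gcd a b) x = f 0 x := by
    intro a b
    induction a, b using Nat.gcd.induction with
    | H0 b => intro _ hb; rwa [Nat.gcd_zero_left]
    | H1 a b ha ih =>
      intro h1 h2
      rw [Nat.gcd_rec]
      refine ih (fun x => ?_) h1
      have h3 := hper ((b / a) * a) (hmul a h1 _) (b % a) x
      rw [mul_one, mul_comm, Nat.mod_add_div, h2] at h3
      exact h3.symm
  have hk' : ∀ x, f (p ^ k) x = f 0 x := fun x => by simp [hf, hτ]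
  have hg := hgcd d (p ^ k) hd hk'
  obtain ⟨l, hl, hgl⟩ := (Nat.dvd_prime_pow hp).1 (Nat.gcd_dvd_right d (p ^ k))
  have hlk : l ≤ k - 1 := by
    rcases hl.lt_or_eq with h | h
    · omega
    · have := Nat.le_of_dvd hd0 (Nat.gcd_dvd_left d (p ^ k))
      rw [hgl, h] at this; omega
  have := hmul _ hg (p ^ (k - 1 - l)) r
  rw [hgl, ← pow_add, show k - 1 - l + l = k - 1 by omega, hf, hf] at this
  simpa using this

/-- A ring automorphism of odd prime order fixing every `g + g⁻¹` fixes every `g` of an invariant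
finite abelian group of units. -/
theorem eq_of_sum_inv [IsReduced R] {p : ℕ} (hp2 : Odd p) (τ : R →+* R)
    (hτ : ∀ r, τ^[p] r = r) {Γ : Type*} [Group Γ] (f : Γ →* R)
    (h : ∀ g, τ (f g) + τ (f g⁻¹) = f g + f g⁻¹) (hcl : ∀ g, ∃ g', f g' = τ (f g)) :
    ∀ g, τ (f g) = f g := by
  intro g
  refine eq_of_forall_mk_maximal fun m hm => ?_
  have := hm.isPrime
  set π := Ideal.Quotient.mk m
  have h1 : ∀ y : Γ, π (f y) * π (f y⁻¹) = 1 := fun y => by
    rw [← map_mul, ← map_mul, mul_inv_cancel, map_one, map_one]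
  have h2 : ∀ y : Γ, π (τ (f y)) = π (f y) ∨ π (τ (f y)) = π (f y⁻¹) := by
    intro y
    have e1 := congrArg π (h y)
    rw [map_add, map_add] at e1
    have e2 : π (τ (f y)) * π (τ (f y⁻¹)) = 1 := by
      rw [← map_mul, ← map_mul, ← map_mul, mul_inv_cancel, map_one, map_one, map_one]
    have e3 : (π (τ (f y)) - π (f y)) * (π (τ (f y)) - π (f y⁻¹)) = 0 := by
      linear_combination (π (τ (f y))) * e1 - e2 + h1 y
    rcases mul_eq_zero.1 e3 with e | e
    · exact Or.inl (sub_eq_zero.1 e)
    · exact Or.inr (sub_eq_zero.1 e)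
  have h3 : (∀ y, π (τ (f y)) = π (f y)) ∨ ∀ y, π (τ (f y)) = π (f y⁻¹) := by
    by_contra hcon
    push Not at hcon
    obtain ⟨⟨u, hu⟩, v, hv⟩ := hcon
    have hu' := (h2 u).resolve_left hu
    have hv' := (h2 v).resolve_right hv
    have hmul : ∀ a b : Γ, π (τ (f (a * b))) = π (τ (f a)) * π (τ (f b)) := fun a b => by
      rw [map_mul, map_mul, map_mul]
    rcases h2 (u * v) with e | e
    · rw [hmul, hu', hv', map_mul, map_mul] at e
      have hu0 : π (f v) ≠ 0 := left_ne_zero_of_mul_eq_one (h1 v)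
      exact hu (hu'.trans (mul_right_cancel₀ hu0 e))
    · rw [hmul, hu', hv', mul_inv_rev, map_mul, map_mul, mul_comm (π (f v⁻¹))] at e
      have hu0 : π (f u⁻¹) ≠ 0 := right_ne_zero_of_mul_eq_one (h1 u)
      exact hv (hv'.trans (mul_left_cancel₀ hu0 e))
  rcases h3 with h3 | h3
  · exact h3 g
  -- inversion has order two
  have hit : ∀ i, ∀ y : Γ, π (τ^[i] (f y)) = if Even i then π (f y) else π (f y⁻¹) := by
    intro i
    induction i with
    | zero => simp
    | succ i ih =>
      intro y
      obtain ⟨y', hy'⟩ := hcl y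
      have e : π (f y') = π (f y⁻¹) := by rw [hy', h3]
      have e' : π (f y'⁻¹) = π (f y) := by
        have a1 := h1 y'
        rw [e] at a1
        calc π (f y'⁻¹) = (π (f y) * π (f y⁻¹)) * π (f y'⁻¹) := by rw [h1, one_mul]
          _ = π (f y) := by rw [mul_assoc, a1, mul_one]
      rw [Function.iterate_succ_apply, ← hy', ih, e, e']
      by_cases hi : Even i <;> simp [hi, Nat.even_add_one]
  have := hit p g
  rw [hτ, if_neg (Nat.not_even_iff_odd.2 hp2)] at this
  rw [h3, ← this]

end CfsgLib.LocalEven.JComplement
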