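import Cfsg.Agent.Lib.LocalEven.JComplement.Count
import Cfsg.Agent.Lib.Solvable.Averaging
import Cfsg.Agent.Lib.Solvable.AbelianAction

/-!
For `p ≥ 5` the abelian subgroups of largest order lie in `H` when `K / H` is an abelian `p'`-group.
-/

set_option autoImplicit false

open scoped commutatorElement

namespace CfsgLib.LocalEven.JComplement

variable {G : Type*} [Group G] [Finite G] {p : ℕ} [hp : Fact p.Prime]

/-- For `p ≥ 5`, in a group with `C(H) ≤ H` an abelian subgroup of largest order of a `p`-group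
containing `H` lies in `H`, once it is faithful on an abelian `p'`-section `K / H`. -/
theorem maxAdm_le (hp5 : 5 ≤ p) {S H K : Subgroup G} (hS : IsPGroup p S) (hHS : H ≤ S)
    (hHn : H.Normal) (hKn : K.Normal) (hHK : H ≤ K) (hc : Subgroup.centralizer (H : Set G) ≤ H)
    (hcop : (H.relIndex K).Coprime p) (hab : ∀ x ∈ K, ∀ y ∈ K, ⁅x, y⁆ ∈ H)
    (hfaith : ∀ a ∈ S, (∀ k ∈ K, ⁅a, k⁆ ∈ H) → a ∈ H) {A : Subgroup G}
    (hA : A ∈ CfsgLib.PStab.maxAdm 0 S) : A ≤ H := by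
  classical
  intro a₀ ha₀
  by_contra ha₀H
  set Good : Subgroup G → Prop := fun A' =>
    A' ≤ A ∧ ∃ g ∈ K, (∀ t ∈ A', ⁅t, g⁆ ∈ H) ∧ ∃ t ∈ A, ⁅t, g⁆ ∉ H with hGood
  have hne : ({A' | Good A'} : Set (Subgroup G)).Nonempty := by
    refine ⟨⊥, bot_le, ?_⟩
    by_contra hcon
    push Not at hcon
    refine ha₀H (hfaith a₀ (hA.1 ha₀) fun k hk => hcon k hk ?_ a₀ ha₀)
    intro t ht
    rw [Subgroup.mem_bot.1 ht, commutatorElement_one_left]
    exact one_mem H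
  obtain ⟨A₁, ⟨hA₁, g₁, hg₁K, hg₁, t₁, ht₁, hg₁t⟩, hmax⟩ :=
    (Set.toFinite {A' | Good A'}).exists_maximalFor (fun A' : Subgroup G => Nat.card A') _ hne
  have hbig : ∀ t ∈ A, t ∉ A₁ → ∀ g ∈ K, (∀ u ∈ A₁, ⁅u, g⁆ ∈ H) → ⁅t, g⁆ ∈ H →
      ∀ v ∈ A, ⁅v, g⁆ ∈ H := by
    intro t ht htA₁ g hg hgA₁ hgt
    by_contra hcon
    push Not at hcon
    have hlt : A₁ < A₁ ⊔ Subgroup.zpowers t := lt_of_le_of_ne le_sup_left fun e =>
      htA₁ (e ▸ Subgroup.mem_sup_right (Subgroup.mem_zpowers t))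
    have hgood : Good (A₁ ⊔ Subgroup.zpowers t) := by
      refine ⟨sup_le hA₁ (Subgroup.zpowers_le.2 ht), g, hg, ?_, hcon⟩
      have hle : A₁ ⊔ Subgroup.zpowers t ≤ (Subgroup.centralizer
          ({QuotientGroup.mk' H g} : Set (G ⧸ H))).comap (QuotientGroup.mk' H) := by
        have conv : ∀ u, ⁅u, g⁆ ∈ H → u ∈ (Subgroup.centralizer
            ({QuotientGroup.mk' H g} : Set (G ⧸ H))).comap (QuotientGroup.mk' H) := fun u hu => by
          rw [Subgroup.mem_comap, Subgroup.mem_centralizer_singleton_iff,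
            ← commutatorElement_eq_one_iff_mul_comm, ← map_commutatorElement]
          exact (QuotientGroup.eq_one_iff _).2 hu
        exact sup_le (fun u hu => conv u (hgA₁ u hu)) (Subgroup.zpowers_le.2 (conv t hgt))
      intro u hu
      have := hle hu
      rw [Subgroup.mem_comap, Subgroup.mem_centralizer_singleton_iff,
        ← commutatorElement_eq_one_iff_mul_comm, ← map_commutatorElement] at this
      exact (QuotientGroup.eq_one_iff _).1 this
    have hle := hmax hgood (Subgroup.card_le_of_le hlt.le)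
    exact hlt.ne (Subgroup.eq_of_le_of_card_ge hlt.le hle)
  -- the action on the commutator of the fixed points
  set π := QuotientGroup.mk' H with hπ
  set K₁ : Subgroup G := K ⊓ (Subgroup.centralizer ((A₁.map π : Subgroup (G ⧸ H)) : Set (G ⧸ H))).comap π
    with hK₁
  have hK₁mem : ∀ g, g ∈ K₁ ↔ g ∈ K ∧ ∀ u ∈ A₁, ⁅u, g⁆ ∈ H := by
    intro g
    rw [hK₁, Subgroup.mem_inf, Subgroup.mem_comap, Subgroup.mem_centralizer_iff]
    refine and_congr_right fun _ => ⟨fun h u hu => ?_, fun h y hy => ?_⟩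
    · refine (QuotientGroup.eq_one_iff _).1 (show π ⁅u, g⁆ = 1 from ?_)
      rw [map_commutatorElement, commutatorElement_eq_one_iff_mul_comm]
      exact h _ ⟨u, hu, rfl⟩
    · obtain ⟨u, hu, rfl⟩ := hy
      rw [← commutatorElement_eq_one_iff_mul_comm, ← map_commutatorElement]
      exact (QuotientGroup.eq_one_iff _).2 (h u hu)
  have hHK₁ : H ≤ K₁ := fun g hg => (hK₁mem g).2 ⟨hHK hg, fun u _ => by
    rw [commutatorElement_def]; exact H.mul_mem (hHn.conj_mem g hg u) (H.inv_mem hg)⟩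
  have hAc : ∀ x ∈ A, ∀ y ∈ A, x * y = y * x := fun x hx y hy => CfsgLib.PStab.adm_comm hA.2.1 hx hy
  have hAK₁ : A ≤ Subgroup.normalizer (K₁ : Set G) := by
    refine CfsgLib.Solvable.le_normalizer_of_conj_mem fun t ht g hg => ?_
    rw [hK₁mem] at hg ⊢
    refine ⟨hKn.conj_mem g hg.1 t, fun u hu => ?_⟩
    have e : ⁅u, t * g * t⁻¹⁆ = t * ⁅u, g⁆ * t⁻¹ := by
      rw [conjugate_commutatorElement, hAc t ht u (hA₁ hu), mul_inv_cancel_right]
    rw [e]
    exact hHn.conj_mem _ (hg.2 u hu) t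
  set N : Subgroup (G ⧸ H) := K₁.map π with hN
  set Ab : Subgroup (G ⧸ H) := A.map π with hAb
  have hNc : ∀ x ∈ N, ∀ y ∈ N, x * y = y * x := by
    rintro _ ⟨x, hx, rfl⟩ _ ⟨y, hy, rfl⟩
    rw [← commutatorElement_eq_one_iff_mul_comm, ← map_commutatorElement]
    exact (QuotientGroup.eq_one_iff _).2 (hab _ hx.1 _ hy.1)
  haveI : IsMulCommutative N := ⟨⟨fun a b => Subtype.ext (hNc _ a.2 _ b.2)⟩⟩
  have hAbN : Ab ≤ Subgroup.normalizer (N : Set (G ⧸ H)) :=
    (Subgroup.map_mono hAK₁).trans (Subgroup.le_normalizer_map π)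
  obtain ⟨eA, heA⟩ := IsPGroup.iff_card.1 ((hS.to_le hA.1).map π)
  have hNcop : (Nat.card Ab).Coprime (Nat.card N) := by
    rw [heA]
    refine Nat.Coprime.pow_left _ (Nat.Coprime.symm (Nat.Coprime.coprime_dvd_left ?_ hcop))
    have h1 : Nat.card (K.map π) = H.relIndex K := by
      rw [← Subgroup.relIndex_bot_left, ← Subgroup.map_bot π, Subgroup.relIndex_map_map,
        QuotientGroup.ker_mk', bot_sup_eq, sup_of_le_left hHK]
    rw [← h1]
    exact Subgroup.card_dvd_of_le (Subgroup.map_mono inf_le_left)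
  set Cc : Subgroup (G ⧸ H) := ⁅N, Ab⁆ with hCc
  have hCcN : Cc ≤ N := CfsgLib.Solvable.commutator_le_of_le_normalizer hAbN
  have hinf := CfsgLib.Solvable.inf_centralizer_inf_commutator Ab N hAbN hNcop
  have hCcne : Cc ≠ ⊥ := by
    intro h
    refine hg₁t ((QuotientGroup.eq_one_iff _).1 (show π ⁅t₁, g₁⁆ = 1 from ?_))
    rw [map_commutatorElement, ← commutatorElement_inv, inv_eq_one]
    exact Subgroup.mem_bot.1 (h ▸ Subgroup.commutator_mem_commutator
      ⟨g₁, (hK₁mem g₁).2 ⟨hg₁K, hg₁⟩, rfl⟩ ⟨t₁, ht₁, rfl⟩)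
  have hAbCc : Ab ≤ Subgroup.normalizer (Cc : Set (G ⧸ H)) := fun x hx =>
    CfsgLib.Solvable.normalizer_le_normalizer_commutator _ _ ⟨hAbN hx, Subgroup.le_normalizer hx⟩
  letI : CommGroup Cc := { (inferInstance : Group Cc) with
    mul_comm := fun a b => Subtype.ext (hNc _ (hCcN a.2) _ (hCcN b.2)) }
  let ψ : A →* MulAut Cc := Cc.normalizerMonoidHom.comp
    ((Subgroup.inclusion hAbCc).comp (π.subgroupMap A))
  have hψ : ∀ (t : A) (v : Cc), ((ψ t v : Cc) : G ⧸ H) = π t * v * (π t)⁻¹ := fun _ _ => rfl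
  -- an element outside `A₁` fixes only the trivial element
  have hfpf : ∀ t : A, (t : G) ∉ A₁ → ∀ v : Cc, ψ t v = v → v = 1 := by
    intro t ht v hv
    have hv' : π t * v * (π t)⁻¹ = v := by rw [← hψ, hv]
    obtain ⟨g, hg, hgv⟩ := hCcN v.2
    rw [← hgv] at hv'
    have hgt : ⁅(t : G), g⁆ ∈ H := (QuotientGroup.eq_one_iff _).1 (show π _ = 1 by
      rw [map_commutatorElement, commutatorElement_eq_one_iff_mul_comm]
      exact mul_inv_eq_iff_eq_mul.1 hv')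
    have hall := hbig t t.2 ht g ((hK₁mem g).1 hg).1 ((hK₁mem g).1 hg).2 hgt
    refine Subtype.ext (Subgroup.mem_bot.1 (hinf.le ⟨⟨hCcN v.2, Subgroup.mem_centralizer_iff.2 ?_⟩, v.2⟩))
    rintro _ ⟨u, hu, rfl⟩
    rw [← hgv, ← commutatorElement_eq_one_iff_mul_comm, ← map_commutatorElement]
    exact (QuotientGroup.eq_one_iff _).2 (hall u hu)
  have hker : ∀ t : A, ψ t = 1 ↔ (t : G) ∈ A₁ := by
    intro t
    constructor
    · intro h
      by_contra ht
      refine hCcne ((Subgroup.eq_bot_iff_forall _).2 fun x hx => ?_)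
      exact congrArg Subtype.val (hfpf t ht ⟨x, hx⟩ (by rw [h]; rfl))
    · intro ht
      refine MulEquiv.ext fun v => Subtype.ext ?_
      rw [hψ]
      obtain ⟨g, hg, hgv⟩ := hCcN v.2
      show _ = (v : G ⧸ H)
      rw [← hgv, mul_inv_eq_iff_eq_mul, ← commutatorElement_eq_one_iff_mul_comm, ← map_commutatorElement]
      exact (QuotientGroup.eq_one_iff _).2 (((hK₁mem g).1 hg).2 t ht)
  haveI : Nontrivial Cc := (Subgroup.nontrivial_iff_ne_bot _).2 hCcne
  have hcyc : IsCyclic ψ.range := by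
    refine CfsgLib.Solvable.isCyclic_of_fpf_comm ψ.range.subtype (fun e he v hv => ?_) ?_
    · obtain ⟨t, ht⟩ := e.2
      refine hfpf t (fun hmem => he (Subtype.ext (ht.symm.trans ((hker t).2 hmem)))) v ?_
      rw [ht]; exact hv
    · rintro ⟨_, a, rfl⟩ ⟨_, b, rfl⟩
      refine Subtype.ext ?_
      show ψ a * ψ b = ψ b * ψ a
      rw [← map_mul, ← map_mul, show a * b = b * a from Subtype.ext (hAc _ a.2 _ b.2)]
  obtain ⟨⟨e, a, rfl⟩, hgen⟩ := hcyc.exists_generator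
  obtain ⟨k, hk⟩ := IsPGroup.iff_orderOf.1 ((hS.to_le hA.1).of_surjective ψ.rangeRestrict
    ψ.rangeRestrict_surjective) ⟨ψ a, a, rfl⟩
  have hk1 : 1 ≤ k := by
    by_contra hk0
    obtain rfl : k = 0 := by omega
    rw [pow_zero, orderOf_eq_one_iff] at hk
    have htriv : ∀ t : A, (t : G) ∈ A₁ := fun t => (hker t).1 (by
      obtain ⟨i, hi⟩ := hgen ⟨ψ t, t, rfl⟩
      have : (⟨ψ t, t, rfl⟩ : ψ.range) = 1 := by
        rw [← hi]; show (⟨ψ a, a, rfl⟩ : ψ.range) ^ i = 1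
        rw [hk, one_zpow]
      exact congrArg Subtype.val this)
    exact hg₁t (hg₁ _ (htriv ⟨t₁, ht₁⟩))
  set b : G := (a : G) ^ p ^ (k - 1) with hb
  have hbA₁ : b ∉ A₁ := by
    intro h
    have h1 : ψ (a ^ p ^ (k - 1)) = 1 := (hker _).2 h
    have h2 : (⟨ψ a, a, rfl⟩ : ψ.range) ^ p ^ (k - 1) = 1 := Subtype.ext ((map_pow ψ a _).symm.trans h1)
    have := orderOf_dvd_of_pow_eq_one h2
    rw [hk, Nat.pow_dvd_pow_iff_le_right hp.out.one_lt] at this
    omega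
  have hex : ∃ g ∈ K₁, ⁅b, g⁆ ∉ H := by
    by_contra hcon
    push Not at hcon
    exact hg₁t (hbig b (pow_mem a.2 _) hbA₁ g₁ hg₁K hg₁ (hcon g₁ ((hK₁mem g₁).2 ⟨hg₁K, hg₁⟩)) t₁ ht₁)
  obtain ⟨K₂, ⟨hHK₂, hK₂₁, hAK₂, hK₂b⟩, hK₂min⟩ := (Set.toFinite {X : Subgroup G | H ≤ X ∧ X ≤ K₁ ∧
    A ≤ Subgroup.normalizer (X : Set G) ∧ ∃ g ∈ X, ⁅b, g⁆ ∉ H}).exists_minimalFor
    (fun X : Subgroup G => Nat.card X) _ ⟨K₁, hHK₁, le_rfl, hAK₁, hex⟩
  let P : Setup p G :=
    { H := H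
      K := K₂
      A := A
      A₁ := A₁
      a := a
      k := k
      hHp := hS.to_le hHS
      hAp := hS.to_le hA.1
      hHn := hHn
      hHK := hHK₂
      hcop := Nat.Coprime.coprime_dvd_left
        (Subgroup.relIndex_mul_relIndex H K₂ K hHK₂ (hK₂₁.trans inf_le_left) ▸ dvd_mul_right _ _) hcop
      hab := fun x hx y hy => hab x (hK₂₁ hx).1 y (hK₂₁ hy).1
      hAK := hAK₂
      hAc := hAc
      hA₁ := hA₁
      ha := a.2
      hk := hk1
      hak := (hker (a ^ p ^ k)).1 (by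
        have h1 : (⟨ψ a, a, rfl⟩ : ψ.range) ^ p ^ k = 1 := hk ▸ pow_orderOf_eq_one _
        rw [map_pow]; exact congrArg Subtype.val h1)
      hgen := fun t ht => by
        have hmem := hgen ⟨ψ ⟨t, ht⟩, _, rfl⟩
        rw [← mem_powers_iff_mem_zpowers] at hmem
        obtain ⟨i, hi⟩ := hmem
        have hi' : ψ (a ^ i) = ψ ⟨t, ht⟩ := by rw [map_pow]; exact congrArg Subtype.val hi
        refine ⟨i, ((a : G) ^ i)⁻¹ * t, (hker ((a ^ i)⁻¹ * ⟨t, ht⟩)).1 ?_, by group⟩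
        rw [map_mul, map_inv, hi', inv_mul_cancel]
      hA₁K := fun t ht g hg => ((hK₁mem g).1 (hK₂₁ hg)).2 t ht
      hex := hK₂b
      hmin := fun X hX1 hX2 hX3 hX4 =>
        Subgroup.eq_of_le_of_card_ge hX2
          (hK₂min ⟨hX1, hX2.trans hK₂₁, hX3, hX4⟩ (Subgroup.card_le_of_le hX2))
      hc := hc }
  exact P.false_of_maxAdm hp5 hHS hA

end CfsgLib.LocalEven.JComplement
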